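import Mathlib
import Cfsg.Prelude.Def_Transfer
import Cfsg.Agent.Lib.PGroups.AbelianNormal
import Cfsg.Agent.Lib.Involutions.Suzuki.BooleanDegree

/-!
Generalities for `2`-groups of normal rank at most two acted upon by a group of odd order.
-/

set_option autoImplicit false
set_option linter.all false

namespace Cfsg.Agent.Components.SmallScn

open Subgroup

variable {X : Type*} [Group X]

/-- The commutator `x y x⁻¹ y⁻¹`. -/
def cm (x y : X) : X := x * y * x⁻¹ * y⁻¹

theorem cm_self (x : X) : cm x x = 1 := by simp [cm]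

theorem cm_inv (x y : X) : (cm x y)⁻¹ = cm y x := by simp [cm, mul_assoc]

theorem cm_eq_one_iff {x y : X} : cm x y = 1 ↔ x * y = y * x := by
  rw [cm, mul_inv_eq_one, mul_inv_eq_iff_eq_mul]

theorem cm_map {Y : Type*} [Group Y] {F : Type*} [FunLike F X Y] [MonoidHomClass F X Y] (f : F)
    (x y : X) : f (cm x y) = cm (f x) (f y) := by
  simp [cm]

theorem cm_mul_left {a b c : X} (h : ∀ z, z * cm b c = cm b c * z) :
    cm (a * b) c = cm a c * cm b c := by
  calc cm (a * b) c = a * cm b c * a⁻¹ * cm a c := by simp only [cm]; group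
    _ = cm b c * cm a c := by rw [h a, mul_inv_cancel_right]
    _ = cm a c * cm b c := (h (cm a c)).symm

theorem cm_mul_right {a b c : X} (h : ∀ z, z * cm a c = cm a c * z) :
    cm a (b * c) = cm a b * cm a c := by
  calc cm a (b * c) = cm a b * (b * cm a c * b⁻¹) := by simp only [cm]; group
    _ = cm a b * cm a c := by rw [h b, mul_inv_cancel_right]

/-- If all squares lie in a central subgroup, so do all commutators. -/
theorem cm_mem_of_sq {W : Subgroup X} (hc : ∀ w ∈ W, ∀ z : X, z * w = w * z)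
    (h : ∀ x : X, x * x ∈ W) (x y : X) : cm x y ∈ W := by
  have e : cm x y = x * y * (x * y) * (y * y)⁻¹ * (y * (x * x)⁻¹ * y⁻¹) := by
    simp only [cm]; group
  rw [e, hc _ (inv_mem (h x)) y, mul_inv_cancel_right]
  exact mul_mem (mul_mem (h _) (inv_mem (h _))) (inv_mem (h _))

/-- Two non-commuting elements determine all commutators when the centre has index at most four. -/
theorem comm_of_small [Finite X] {W Z S : Subgroup X} (hZS : Z ≤ S)
    (hZc : ∀ z ∈ Z, ∀ s ∈ S, s * z = z * s)
    (hW : ∀ w ∈ W, ∀ z : X, z * w = w * z) (hexp : ∀ w ∈ W, w * w = 1)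
    (hSW : ∀ a ∈ S, ∀ b ∈ S, cm a b ∈ W) (hcard : Nat.card S ≤ 4 * Nat.card Z)
    {x y : X} (hx : x ∈ S) (hy : y ∈ S) (hxy : cm x y ≠ 1) :
    ∀ a ∈ S, ∀ b ∈ S, cm a b = 1 ∨ cm a b = cm x y := by
  classical
  haveI := Fintype.ofFinite X
  have c0 : ∀ {a}, a ∈ S → ∀ {z}, z ∈ Z → cm a z = 1 :=
    fun ha _ hz => cm_eq_one_iff.mpr (hZc _ hz _ ha)
  have cinv : ∀ {a b}, a ∈ S → b ∈ S → cm b a = cm a b := fun ha hb => by
    rw [← cm_inv, inv_eq_iff_mul_eq_one]; exact hexp _ (hSW _ ha _ hb)
  have cov : ∀ a ∈ S, a ∈ Z ∨ x⁻¹ * a ∈ Z ∨ y⁻¹ * a ∈ Z ∨ (x * y)⁻¹ * a ∈ Z := by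
    intro a ha
    by_contra! h
    obtain ⟨h1, h2, h3, h4⟩ := h
    have hxZ : x ∉ Z := fun h => hxy (by rw [← cinv hx hy]; exact c0 hy h)
    have hyZ : y ∉ Z := fun h => hxy (c0 hx h)
    have hxyZ : x * y ∉ Z := fun h => hxy (by
      have := c0 hx h
      rwa [cm_mul_right (hW _ (hSW _ hx _ hy)), cm_self, one_mul] at this)
    have hxiy : x⁻¹ * y ∉ Z := fun h => hxy (by
      have := c0 hx h
      rwa [cm_mul_right (hW _ (hSW _ hx _ hy)),
        show cm x x⁻¹ = 1 from cm_eq_one_iff.mpr (by simp), one_mul] at this)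
    let pts : List (S ⧸ Z.subgroupOf S) :=
      [QuotientGroup.mk 1, QuotientGroup.mk ⟨x, hx⟩, QuotientGroup.mk ⟨y, hy⟩,
        QuotientGroup.mk ⟨x * y, mul_mem hx hy⟩, QuotientGroup.mk ⟨a, ha⟩]
    have key : ∀ u v : S, (u : X)⁻¹ * v ∉ Z →
        (QuotientGroup.mk u : S ⧸ Z.subgroupOf S) ≠ QuotientGroup.mk v :=
      fun u v h e => h (by simpa [mem_subgroupOf] using QuotientGroup.eq.mp e)
    have k0 : ∀ v : S, (v : X) ∉ Z →
        (QuotientGroup.mk 1 : S ⧸ Z.subgroupOf S) ≠ QuotientGroup.mk v :=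
      fun v h => key 1 v (by simpa using h)
    have hnd : pts.Nodup := by
      simp only [pts, List.nodup_cons, List.mem_cons, List.not_mem_nil, or_false, not_or,
        List.nodup_nil, and_true, not_false_eq_true]
      refine ⟨⟨k0 _ hxZ, k0 _ hyZ, k0 _ hxyZ, k0 _ h1⟩,
        ⟨key _ _ hxiy, key _ _ ?_, key _ _ h2⟩, ⟨key _ _ ?_, key _ _ h3⟩, key _ _ h4⟩
      · simpa using hyZ
      · intro h
        have := c0 hy h
        simp only at this
        rw [show y⁻¹ * (x * y) = y⁻¹ * x * y by group] at this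
        have h' : cm y (y⁻¹ * x * y) = y⁻¹ * cm y x * y := by simp only [cm]; group
        rw [h', cinv hx hy] at this
        apply hxy
        calc cm x y = y * (y⁻¹ * cm x y * y) * y⁻¹ := by group
          _ = 1 := by rw [this, mul_one, mul_inv_cancel]
    have h5 := hnd.length_le_card
    rw [← Nat.card_eq_fintype_card] at h5
    have h6 := (Z.subgroupOf S).card_eq_card_quotient_mul_card_subgroup
    rw [Nat.card_congr (subgroupOfEquivOfLe hZS).toEquiv] at h6
    have h7 : 0 < Nat.card Z := Nat.card_pos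
    simp only [pts, List.length_cons, List.length_nil] at h5
    have := Nat.mul_le_mul_right (Nat.card Z) h5
    omega
  have ev : ∀ u ∈ S, ∀ b ∈ S, (∀ t, t = x ∨ t = y ∨ t = x * y ∨ t = 1 → cm u t = 1 ∨ cm u t = cm x y) →
      cm u b = 1 ∨ cm u b = cm x y := by
    intro u hu b hb H
    have peel : ∀ t ∈ S, t⁻¹ * b ∈ Z → cm u b = cm u t := fun t ht htb => by
      conv_lhs => rw [show b = t * (t⁻¹ * b) by group]
      rw [cm_mul_right (fun z => by rw [c0 hu htb, mul_one, one_mul]), c0 hu htb, mul_one]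
    rcases cov b hb with h | h | h | h
    · rw [peel 1 (one_mem _) (by simpa using h)]; exact H 1 (Or.inr (Or.inr (Or.inr rfl)))
    · rw [peel x hx h]; exact H x (Or.inl rfl)
    · rw [peel y hy h]; exact H y (Or.inr (Or.inl rfl))
    · rw [peel _ (mul_mem hx hy) h]; exact H _ (Or.inr (Or.inr (Or.inl rfl)))
  have hc := hexp _ (hSW _ hx _ hy)
  have base : ∀ t, t = x ∨ t = y ∨ t = x * y ∨ t = 1 → ∀ u, u = x ∨ u = y ∨ u = x * y ∨ u = 1 →
      cm u t = 1 ∨ cm u t = cm x y := by
    have hyx : cm y x = cm x y := cinv hx hy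
    have hctr := hW _ (hSW _ hx _ hy)
    have a1 : cm x (x * y) = cm x y := by rw [cm_mul_right hctr, cm_self, one_mul]
    have a2 : cm y (x * y) = cm x y := by
      rw [cm_mul_right (fun z => by rw [cm_self, mul_one, one_mul]), cm_self, mul_one, hyx]
    have a3 : cm (x * y) x = cm x y := by rw [← cinv (mul_mem hx hy) hx, a1]
    have a4 : cm (x * y) y = cm x y := by rw [← cinv (mul_mem hx hy) hy, a2]
    intro t ht u hu
    rcases ht with rfl | rfl | rfl | rfl <;> rcases hu with rfl | rfl | rfl | rfl <;>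
      first
        | exact Or.inl (cm_self _)
        | exact Or.inr rfl
        | exact Or.inr hyx
        | exact Or.inr a1
        | exact Or.inr a2
        | exact Or.inr a3
        | exact Or.inr a4
        | (left; simp [cm]; done)
  intro a ha b hb
  refine ev a ha b hb fun t ht => ?_
  have htS : t ∈ S := by rcases ht with rfl | rfl | rfl | rfl <;> first | assumption | exact mul_mem hx hy | exact one_mem _
  rw [← cinv ha htS]
  exact ev t htS a ha fun u hu => base u hu t ht

theorem iterate_fixed {φ : MulAut X} {x : X} (h : φ x = x) (n : ℕ) : (φ ^ n) x = x := by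
  induction n with
  | zero => rfl
  | succ n ih => rw [pow_succ, MulAut.mul_apply, h, ih]

/-- An automorphism of odd order fixing `φ²`-fixed points fixes them. -/
theorem odd_fix {φ : MulAut X} (hφ : Odd (orderOf φ)) {x : X} (h : φ (φ x) = x) : φ x = x := by
  obtain ⟨k, hk⟩ := hφ
  have h2 : ((φ * φ) ^ k) x = x := iterate_fixed (by simpa [MulAut.mul_apply] using h) k
  have h1 : (φ ^ orderOf φ) x = x := by rw [pow_orderOf_eq_one]; rfl
  rw [hk, pow_succ', MulAut.mul_apply, two_mul, pow_add, ← (Commute.refl φ).mul_pow, h2] at h1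
  exact h1

/-- An automorphism of odd order fixing all involutions of an abelian `2`-subgroup fixes it. -/
theorem fix_of_fix_involutions (hX : IsPGroup 2 X) {φ : MulAut X} (hφ : Odd (orderOf φ))
    {C : Subgroup X} (hC : ∀ a ∈ C, ∀ b ∈ C, a * b = b * a) (hinv : ∀ a ∈ C, φ a ∈ C)
    (h1 : ∀ a ∈ C, a * a = 1 → φ a = a) : ∀ a ∈ C, φ a = a := by
  have key : ∀ n : ℕ, ∀ a ∈ C, a ^ 2 ^ n = 1 → φ a = a := by
    intro n
    induction n with
    | zero => intro a _ h; rw [pow_zero, pow_one] at h; simp [h]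
    | succ n ih =>
      intro a ha h
      have h2 : φ (a * a) = a * a := ih _ (mul_mem ha ha) (by
        rw [← pow_two, ← pow_mul, ← pow_succ']; exact h)
      have hw : a⁻¹ * φ a ∈ C := mul_mem (inv_mem ha) (hinv a ha)
      have hwsq : a⁻¹ * φ a * (a⁻¹ * φ a) = 1 := by
        have hc : φ a * a⁻¹ = a⁻¹ * φ a := hC _ (hinv a ha) _ (inv_mem ha)
        rw [mul_assoc, ← mul_assoc (φ a), hc, mul_assoc a⁻¹, ← map_mul, h2]
        group
      have hfix := h1 _ hw hwsq
      refine odd_fix hφ ?_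
      have e : φ (φ a) = φ a * (a⁻¹ * φ a) := by
        conv_lhs => rw [show φ a = a * (a⁻¹ * φ a) by group]
        rw [map_mul, hfix]
      rw [e, hC _ (hinv a ha) _ hw, mul_assoc, ← map_mul, h2]
      group
  intro a ha
  obtain ⟨n, hn⟩ := hX a
  exact key n a ha hn

theorem mem_four [Finite X] {W : Subgroup X} (hW : Nat.card W = 4) (hexp : ∀ w ∈ W, w * w = 1)
    {a b z : X} (ha : a ∈ W) (hb : b ∈ W) (hz : z ∈ W) (ha1 : a ≠ 1) (hb1 : b ≠ 1) (hab : a ≠ b) :
    z = 1 ∨ z = a ∨ z = b ∨ z = a * b := by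
  classical
  haveI := Fintype.ofFinite X
  by_contra! h
  obtain ⟨h1, h2, h3, h4⟩ := h
  have e : a⁻¹ = a := inv_eq_iff_mul_eq_one.mpr (hexp a ha)
  let l : List W := [1, ⟨a, ha⟩, ⟨b, hb⟩, ⟨a * b, mul_mem ha hb⟩, ⟨z, hz⟩]
  have hnd : l.Nodup := by
    simp only [l, List.nodup_cons, List.mem_cons, List.not_mem_nil, or_false, not_or, List.nodup_nil,
      and_true, not_false_eq_true, ← Subtype.coe_inj, coe_one]
    exact ⟨⟨ha1.symm, hb1.symm, fun h => hab (by rw [← e, ← eq_inv_of_mul_eq_one_right h.symm]),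
      h1.symm⟩, ⟨hab, fun h => hb1 (mul_eq_left.mp h.symm), h2.symm⟩,
      ⟨fun h => ha1 (mul_eq_right.mp h.symm), h3.symm⟩, h4.symm⟩
  have := hnd.length_le_card
  rw [← Nat.card_eq_fintype_card, hW] at this
  simp only [l, List.length_cons, List.length_nil] at this
  omega

/-- The consequence of the Chevalley–Warning argument: squaring into a small group. -/
theorem card_le_of_sq [Finite X] (hX : IsPGroup 2 X) {S D W : Subgroup X} (hWD : W ≤ D) (hDS : D ≤ S)
    (hWc : ∀ w ∈ W, ∀ z : X, z * w = w * z) (hWexp : ∀ w ∈ W, w * w = 1)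
    (hDc : ∀ d ∈ D, ∀ s ∈ S, s * d = d * s) (hsq : ∀ s ∈ S, s * s ∈ W)
    (hcm : ∀ a ∈ S, ∀ b ∈ S, cm a b ∈ W)
    (hD : ∀ s ∈ S, s * s = 1 ↔ s ∈ D) {n : ℕ} (hn : Nat.card W = 2 ^ n) :
    Nat.card S ≤ Nat.card D * 2 ^ (2 * n) := by
  classical
  haveI : Fact (Nat.Prime 2) := ⟨Nat.prime_two⟩
  haveI hN : (D.subgroupOf S).Normal := ⟨fun d hd g => by
    rw [mem_subgroupOf] at hd ⊢
    simp only [coe_mul, coe_inv]
    rw [hDc _ hd _ g.2, mul_inv_cancel_right]
    exact hd⟩
  letI : CommGroup (S ⧸ D.subgroupOf S) :=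
    { (inferInstance : Group (S ⧸ D.subgroupOf S)) with
      mul_comm := fun a b => by
        induction a using QuotientGroup.induction_on
        induction b using QuotientGroup.induction_on
        rename_i a b
        rw [← QuotientGroup.mk_mul, ← QuotientGroup.mk_mul]
        refine QuotientGroup.eq.mpr (mem_subgroupOf.mpr ?_)
        simp only [coe_mul, coe_inv]
        rw [show ((a : X) * b)⁻¹ * (b * a) = cm (b : X)⁻¹ (a : X)⁻¹ by simp only [cm]; group]
        exact hWD (hcm _ (inv_mem b.2) _ (inv_mem a.2)) }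
  letI : CommGroup W :=
    { (inferInstance : Group W) with mul_comm := fun a b => Subtype.ext (hWc _ b.2 _) }
  let sqf : S ⧸ D.subgroupOf S → W := fun q =>
    Quotient.liftOn' q (fun s => ⟨(s : X) * s, hsq _ s.2⟩) fun s t h => by
      rw [QuotientGroup.leftRel_apply, mem_subgroupOf] at h
      refine Subtype.ext ?_
      simp only [coe_mul, coe_inv] at h
      obtain ⟨d, hd, hts⟩ : ∃ d, d ∈ D ∧ (t : X) = s * d := ⟨_, h, (mul_inv_cancel_left _ _).symm⟩
      have hdd : d * d = 1 := (hD d (hDS hd)).mpr hd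
      show (s : X) * s = t * t
      rw [hts, mul_assoc (s : X) d, ← mul_assoc d, ← hDc d hd s s.2, mul_assoc (s : X) d d, hdd, mul_one]
  let f : Additive (S ⧸ D.subgroupOf S) → Additive W := fun q => Additive.ofMul (sqf q.toMul)
  have hV : ∀ v : Additive (S ⧸ D.subgroupOf S), v + v = 0 := by
    intro v
    obtain ⟨s, hs⟩ := QuotientGroup.mk_surjective v.toMul
    apply Additive.toMul.injective
    rw [toMul_add, toMul_zero, ← hs, ← QuotientGroup.mk_mul, QuotientGroup.eq_one_iff, mem_subgroupOf]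
    exact hWD (hsq _ s.2)
  have hZ : ∀ z : Additive W, z + z = 0 := fun z => by
    apply Additive.toMul.injective
    rw [toMul_add, toMul_zero]
    exact Subtype.ext (hWexp _ z.toMul.2)
  obtain ⟨m, hm⟩ : ∃ m, Nat.card (Additive (S ⧸ D.subgroupOf S)) = 2 ^ m :=
    ((hX.to_subgroup S).to_quotient _).exists_card_eq
  have key : m ≤ 2 * n := by
    refine Cfsg.Agent.Involutions.Suzuki.BoolDeg.dim_le hV hZ f ?_ ?_ hm hn
    · intro x a b
      obtain ⟨x, rfl⟩ := Additive.ofMul.surjective x
      obtain ⟨a, rfl⟩ := Additive.ofMul.surjective a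
      obtain ⟨b, rfl⟩ := Additive.ofMul.surjective b
      obtain ⟨x, rfl⟩ := QuotientGroup.mk_surjective x
      obtain ⟨a, rfl⟩ := QuotientGroup.mk_surjective a
      obtain ⟨b, rfl⟩ := QuotientGroup.mk_surjective b
      apply Additive.toMul.injective
      refine Subtype.ext ?_
      show (x * a * b : X) * (x * a * b) * ((x * a : X) * (x * a)) * ((x * b : X) * (x * b)) * (x * x)
        = (a * b : X) * (a * b) * ((a : X) * a) * ((b : X) * b) * ((1 : X) * 1)
      have sqmul : ∀ s ∈ S, ∀ t ∈ S, s * t * (s * t) = s * s * (t * t) * cm t s := by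
        intro s hs t ht
        have hc := hWc _ (hcm t ht s hs)
        calc s * t * (s * t) = s * (cm t s * (s * t)) * t := by simp only [cm]; group
          _ = cm t s * (s * (s * t) * t) := by
              rw [← mul_assoc s (cm t s), hc s]; group
          _ = s * s * (t * t) * cm t s := by rw [← hc]; group
      have hx := x.2
      have ha := a.2
      have hb := b.2
      have hab : cm (b : X) (x * a) = cm (b : X) x * cm (b : X) a :=
        cm_mul_right (hWc _ (hcm _ hb _ ha))
      rw [sqmul _ (mul_mem hx ha) _ hb, sqmul _ hx _ ha, sqmul _ hx _ hb, sqmul _ ha _ hb, hab]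
      let p : W := ⟨_, hsq _ hx⟩
      let q : W := ⟨_, hsq _ ha⟩
      let r : W := ⟨_, hsq _ hb⟩
      let u : W := ⟨_, hcm _ ha _ hx⟩
      let v : W := ⟨_, hcm _ hb _ hx⟩
      let w : W := ⟨_, hcm _ hb _ ha⟩
      have e : p * q * u * r * (v * w) * (p * q * u) * (p * r * v) * p = q * r * w * q * r * (1 * 1) := by
        have e2 : ∀ i : W, i * i = 1 := fun i => Subtype.ext (hWexp _ i.2)
        calc p * q * u * r * (v * w) * (p * q * u) * (p * r * v) * p
            = (p * p) * (p * p) * (u * u) * (v * v) * (q * q) * (r * r) * w := by ac_rfl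
          _ = (q * q) * (r * r) * w := by simp only [e2, one_mul]
          _ = q * r * w * q * r * (1 * 1) := by simp only [mul_one]; ac_rfl
      exact congrArg Subtype.val e
    · intro v
      obtain ⟨v, rfl⟩ := Additive.ofMul.surjective v
      obtain ⟨s, rfl⟩ := QuotientGroup.mk_surjective v
      constructor
      · intro h
        have h' : (s : X) * s = 1 := congrArg (fun z : Additive W => (z.toMul : X)) h
        exact congrArg Additive.ofMul ((QuotientGroup.eq_one_iff _).mpr
          (mem_subgroupOf.mpr ((hD _ s.2).mp h')))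
      · intro h
        have h' : (s : X) ∈ D := mem_subgroupOf.mp ((QuotientGroup.eq_one_iff _).mp h)
        exact congrArg Additive.ofMul (Subtype.ext ((hD _ s.2).mpr h'))
  have h6 := (D.subgroupOf S).card_eq_card_quotient_mul_card_subgroup
  rw [Nat.card_congr (subgroupOfEquivOfLe hDS).toEquiv, mul_comm] at h6
  rw [h6]
  refine Nat.mul_le_mul_left _ ?_
  calc Nat.card (S ⧸ D.subgroupOf S) = 2 ^ m := hm
    _ ≤ _ := Nat.pow_le_pow_right (by norm_num) key

end Cfsg.Agent.Components.SmallScn
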