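import Cfsg.Agent.Lib.Components.SmallScn.Moved
import Cfsg.Agent.Lib.PGroups.UniqueSubgroup

/-!
The case where every invariant abelian normal subgroup is fixed.
-/

set_option autoImplicit false
set_option linter.all false

namespace Cfsg.Agent.Components.SmallScn

open Subgroup
open scoped commutatorElement

universe u

theorem cm_pow_left {X : Type*} [Group X] {a b : X} (h : ∀ z, z * cm a b = cm a b * z) :
    ∀ n : ℕ, cm (a ^ n) b = cm a b ^ n
  | 0 => by simp [cm]
  | n + 1 => by rw [pow_succ, cm_mul_left h, cm_pow_left h n, pow_succ]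

theorem two_mul_card_le {X : Type*} [Group X] [Finite X] {H K : Subgroup X} (h : H < K) :
    2 * Nat.card H ≤ Nat.card K := by
  obtain ⟨j, hj⟩ := Subgroup.card_dvd_of_le h.le
  rcases Nat.lt_or_ge j 2 with h2 | h2
  · exfalso
    have hpos : 0 < Nat.card K := Nat.card_pos
    interval_cases j
    · omega
    · exact h.ne (eq_of_le_of_card_ge h.le (by omega))
  · rw [hj, mul_comm]
    exact Nat.mul_le_mul_left _ h2

variable {X : Type u} [Group X] [Finite X]

/-- The setting: a nonabelian `2`-group, a group of automorphisms of odd order with `[X, A] = X`,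
and every invariant abelian normal subgroup fixed. -/
structure FixSetup (A : Subgroup (MulAut X)) : Prop where
  two : IsPGroup 2 X
  nonab : ∃ a b : X, cm a b ≠ 1
  scn : ¬ ∃ A : Subgroup X, A.Normal ∧ Subgroup.centralizer (A : Set X) = A ∧
      ∃ E : Subgroup X, E ≤ A ∧ Cfsg.IsElementaryAbelian 2 E ∧ Nat.card E = 8
  odd : Odd (Nat.card A)
  gen : Subgroup.closure {g : X | ∃ φ ∈ A, ∃ x : X, g = x⁻¹ * φ x} = ⊤
  fixes : ∀ C : Subgroup X, C.Normal → (∀ a ∈ C, ∀ b ∈ C, a * b = b * a) →
    (∀ ψ ∈ A, ∀ c ∈ C, ψ c ∈ C) → ∀ ψ ∈ A, ∀ c ∈ C, ψ c = c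

namespace FixSetup

variable {A : Subgroup (MulAut X)} (h : FixSetup A)
include h

theorem le_center (C : Subgroup X) (hn : C.Normal) (hc : ∀ a ∈ C, ∀ b ∈ C, a * b = b * a)
    (hi : ∀ ψ ∈ A, ∀ c ∈ C, ψ c ∈ C) : C ≤ center X := by
  intro c hcC
  have hle : closure {g : X | ∃ φ ∈ A, ∃ x : X, g = x⁻¹ * φ x} ≤ centralizer ({c} : Set X) := by
    rw [closure_le]
    rintro _ ⟨ψ, hψ, y, rfl⟩
    rw [SetLike.mem_coe, mem_centralizer_singleton_iff]
    have hy : ψ (y * c * y⁻¹) = y * c * y⁻¹ :=
      h.fixes C hn hc hi ψ hψ _ (Normal.conj_mem inferInstance c hcC y)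
    rw [map_mul, map_mul, map_inv, h.fixes C hn hc hi ψ hψ c hcC] at hy
    have h2 : c * (y⁻¹ * ψ y) = y⁻¹ * ψ y * c := by
      calc c * (y⁻¹ * ψ y) = y⁻¹ * (y * c * y⁻¹) * ψ y := by group
        _ = y⁻¹ * (ψ y * c * (ψ y)⁻¹) * ψ y := by rw [hy]
        _ = y⁻¹ * ψ y * c := by group
    first | exact h2 | exact h2.symm
  rw [mem_center_iff]
  intro g
  have hg := hle (by rw [h.gen]; exact mem_top g)
  rw [mem_centralizer_singleton_iff] at hg
  first | exact hg | exact hg.symm

theorem commutator_le_center : commutator X ≤ center X := by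
  classical
  by_contra hne
  have hnil : ∃ n, Subgroup.lowerCentralSeries (⊤ : Subgroup X) n ≤ center X := by
    haveI := h.two.isNilpotent (hp := ⟨Nat.prime_two⟩)
    obtain ⟨n, hn⟩ := Subgroup.nilpotent_iff_lowerCentralSeries.mp (inferInstance : Group.IsNilpotent X)
    exact ⟨n, by rw [hn]; exact bot_le⟩
  set n := Nat.find hnil with hn
  have h1 : 2 ≤ n := by
    by_contra hlt
    refine hne (le_trans ?_ (Nat.find_spec hnil))
    rw [← hn]
    interval_cases n
    · simp [Subgroup.lowerCentralSeries_zero]
    · rw [Subgroup.lowerCentralSeries_succ, Subgroup.lowerCentralSeries_zero, ← _root_.commutator_def]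
  obtain ⟨j, hj⟩ : ∃ j, n = j + 1 + 1 := ⟨n - 2, by omega⟩
  set L := Subgroup.lowerCentralSeries (⊤ : Subgroup X) (j + 1) with hL
  have hLZ : ¬ L ≤ center X := Nat.find_min hnil (show j + 1 < n by omega)
  have hLX : ⁅L, (⊤ : Subgroup X)⁆ ≤ center X := by
    rw [hL, ← Subgroup.lowerCentralSeries_succ, ← hj]
    exact Nat.find_spec hnil
  have hbot : ∀ U : Subgroup X, U ≤ center X → ⁅U, (⊤ : Subgroup X)⁆ = ⊥ := fun U hU =>
    le_bot_iff.mp (commutator_le.mpr fun u hu g _ => mem_bot.mpr
      (commutatorElement_eq_one_iff_mul_comm.mpr (mem_center_iff.mp (hU hu) g).symm))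
  have hcomm : ⁅⁅(⊤ : Subgroup X), (⊤ : Subgroup X)⁆, L⁆ = ⊥ :=
    commutator_commutator_eq_bot_of_rotate (hbot _ (by rw [commutator_comm]; exact hLX))
      (hbot _ hLX)
  have hLC : L ≤ ⁅(⊤ : Subgroup X), (⊤ : Subgroup X)⁆ := by
    rw [hL, Subgroup.lowerCentralSeries_succ]
    exact commutator_mono le_top le_rfl
  refine hLZ (h.le_center L inferInstance (fun a ha b hb => ?_) ?_)
  · exact commutatorElement_eq_one_iff_mul_comm.mp
      (mem_bot.mp (hcomm ▸ commutator_mem_commutator (hLC ha) hb))
  · intro ψ _
    suffices ∀ i, ∀ x ∈ Subgroup.lowerCentralSeries (⊤ : Subgroup X) i,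
        ψ x ∈ Subgroup.lowerCentralSeries (⊤ : Subgroup X) i from this (j + 1)
    intro i
    induction i with
    | zero => intro x _; simp [Subgroup.lowerCentralSeries_zero]
    | succ i ih =>
      have : Subgroup.lowerCentralSeries (⊤ : Subgroup X) (i + 1) ≤
          (Subgroup.lowerCentralSeries (⊤ : Subgroup X) (i + 1)).comap (ψ : X →* X) := by
        rw [Subgroup.lowerCentralSeries_succ, commutator_le]
        intro a ha b _
        rw [mem_comap, map_commutatorElement]
        exact commutator_mem_commutator (ih a ha) (mem_top _)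
      exact fun x hx => this hx

theorem cm_mem (x y : X) : cm x y ∈ commutator X :=
  commutator_mem_commutator (mem_top x) (mem_top y)

theorem cm_central (x y : X) : ∀ z, z * cm x y = cm x y * z :=
  fun z => mem_center_iff.mp (h.commutator_le_center (h.cm_mem x y)) z

theorem pow_cm (a b : X) (m : ℕ) : cm (a ^ m) (b ^ m) = cm a b ^ (m * m) := by
  have h1 : ∀ k : ℕ, cm a (b ^ k) = cm a b ^ k := fun k => by
    have := cm_pow_left (h.cm_central b a) k
    rw [← cm_inv, this, ← inv_pow, cm_inv]
  rw [cm_pow_left (h.cm_central a (b ^ m)) m, h1, ← pow_mul]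

theorem cm_sq (x y : X) : cm x y * cm x y = 1 := by
  classical
  have step : ∀ e : ℕ, 1 ≤ e → (∀ a b : X, cm a b ^ 2 ^ (e + 1) = 1) →
      ∀ a b : X, cm a b ^ 2 ^ e = 1 := by
    intro e he hall a b
    set m := 2 ^ e
    set S : Set X := Set.range (fun x : X => x ^ m) ∪ (commutator X : Set X)
    have hScomm : ∀ s ∈ S, ∀ t ∈ S, t * s = s * t := by
      rintro s (⟨u, rfl⟩ | hs) t ht
      · rcases ht with ⟨v, rfl⟩ | ht
        · refine (cm_eq_one_iff.mp ?_)
          show cm (v ^ m) (u ^ m) = 1
          rw [h.pow_cm, show m * m = 2 ^ (e + 1) * 2 ^ (e - 1) by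
            rw [← pow_add, ← pow_add]; congr 1; omega, pow_mul, hall, one_pow]
        · exact (mem_center_iff.mp (h.commutator_le_center ht) _).symm
      · exact mem_center_iff.mp (h.commutator_le_center hs) t
    have hab : ∀ a ∈ closure S, ∀ b ∈ closure S, a * b = b * a := by
      have h1 : closure S ≤ centralizer S := (closure_le _).mpr fun s hs =>
        mem_centralizer_iff.mpr fun t ht => hScomm s hs t ht
      have h2 : closure S ≤ centralizer (closure S : Set X) := (closure_le _).mpr fun s hs =>
        mem_centralizer_iff.mpr fun t ht => (mem_centralizer_iff.mp (h1 ht) s hs).symm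
      exact fun a ha b hb => mem_centralizer_iff.mp (h2 hb) a ha
    have hn : (closure S).Normal := ⟨fun z hz g => by
      rw [show g * z * g⁻¹ = cm g z * z by simp only [cm]; group]
      exact mul_mem (subset_closure (Or.inr (h.cm_mem g z))) hz⟩
    have hi : ∀ ψ ∈ A, ∀ z ∈ closure S, ψ z ∈ closure S := by
      intro ψ _
      have : closure S ≤ (closure S).comap (ψ : X →* X) := by
        rw [closure_le]
        rintro s (⟨u, rfl⟩ | hs)
        · exact subset_closure (Or.inl ⟨ψ u, (map_pow ψ u m).symm⟩)
        · refine subset_closure (Or.inr ?_)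
          have : commutator X ≤ (commutator X).comap (ψ : X →* X) := by
            rw [_root_.commutator_def, commutator_le]
            intro a _ b _
            rw [mem_comap, map_commutatorElement]
            exact commutator_mem_commutator (mem_top _) (mem_top _)
          exact this hs
      exact fun z hz => this hz
    have hz := h.le_center _ hn hab hi (subset_closure (Or.inl ⟨a, rfl⟩) : a ^ m ∈ closure S)
    rw [← cm_pow_left (h.cm_central a b), cm_eq_one_iff]
    exact (mem_center_iff.mp hz b).symm
  haveI : Fact (Nat.Prime 2) := ⟨Nat.prime_two⟩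
  obtain ⟨N, hN⟩ := h.two.exists_card_eq
  have key : ∀ d : ℕ, ∀ a b : X, cm a b ^ 2 ^ (d + 1) = 1 → True := fun _ _ _ _ => trivial
  have down : ∀ d, (∀ a b : X, cm a b ^ 2 ^ (d + 1) = 1) → ∀ a b : X, cm a b ^ 2 ^ 1 = 1 := by
    intro d
    induction d with
    | zero => exact fun hd => hd
    | succ d ih => exact fun hd => ih (step (d + 1) (by omega) hd)
  have := down N (fun a b => by
    rw [pow_succ, pow_mul, ← hN, pow_card_eq_one', one_pow]) x y
  rwa [pow_one, pow_two] at this

theorem sq_center (x : X) : x * x ∈ center X := mem_center_iff.mpr fun g =>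
  (cm_eq_one_iff.mp (by rw [cm_mul_left (h.cm_central x g)]; exact h.cm_sq x g)).symm

theorem fix_center {ψ : MulAut X} (hψ : ψ ∈ A) {z : X} (hz : z ∈ center X) : ψ z = z :=
  h.fixes (center X) inferInstance (fun a _ b hb => mem_center_iff.mp hb a)
    (fun χ _ c hc => mem_center_iff.mpr fun g => by
      rw [← χ.apply_symm_apply g, ← map_mul, ← map_mul, mem_center_iff.mp hc]) ψ hψ z hz

/-- A point fixed by `A` lies in the derived subgroup. -/
theorem mem_commutator_of_fix {z : X} (hz : ∀ ψ ∈ A, ψ z = z) : z ∈ commutator X := by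
  classical
  haveI := Fintype.ofFinite A
  let of : X →* Abelianization X := Abelianization.of
  let N : X →* Abelianization X := ∏ ψ : A, of.comp ((ψ : MulAut X) : X →* X)
  have hN : ∀ x, N x = ∏ ψ : A, of ((ψ : MulAut X) x) := fun x => by
    simp only [N, MonoidHom.finsetProd_apply]; rfl
  have hle : closure {g : X | ∃ φ ∈ A, ∃ x : X, g = x⁻¹ * φ x} ≤ N.ker := by
    rw [closure_le]
    rintro _ ⟨χ, hχ, x, rfl⟩
    rw [SetLike.mem_coe, MonoidHom.mem_ker, map_mul, map_inv, inv_mul_eq_one, hN, hN]
    exact (Fintype.prod_equiv (Equiv.mulRight (⟨χ, hχ⟩ : A)) _ _ fun ψ => rfl).symm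
  have h1 : N z = 1 := hle (by rw [h.gen]; exact mem_top z)
  rw [hN, Finset.prod_congr rfl (fun ψ _ => by rw [hz ψ ψ.2] : ∀ ψ ∈ (Finset.univ : Finset A),
    of ((ψ : MulAut X) z) = of z), Finset.prod_const, Finset.card_univ, ← Nat.card_eq_fintype_card] at h1
  obtain ⟨k, hk⟩ := h.two z
  have h2 : of z ^ 2 ^ k = 1 := by rw [← map_pow, hk, map_one]
  have h3 : of z ^ Nat.gcd (Nat.card A) (2 ^ k) = 1 := pow_gcd_eq_one.mpr ⟨h1, h2⟩
  rw [Nat.Coprime.gcd_eq_one ((Nat.coprime_two_right.mpr h.odd).pow_right k), pow_one] at h3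
  exact (QuotientGroup.eq_one_iff z).mp h3

theorem commutator_eq_center : commutator X = center X :=
  le_antisymm h.commutator_le_center fun z hz => h.mem_commutator_of_fix fun ψ hψ => h.fix_center hψ hz

theorem center_exp {z : X} (hz : z ∈ center X) : z * z = 1 := by
  let E : Subgroup X :=
    { carrier := {z | z ∈ center X ∧ z * z = 1}
      one_mem' := ⟨one_mem _, one_mul _⟩
      mul_mem' := fun {a b} ha hb => ⟨mul_mem ha.1 hb.1, by
        rw [mul_assoc, ← mul_assoc b a b, mem_center_iff.mp ha.1 b, mul_assoc a b b, hb.2, mul_one, ha.2]⟩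
      inv_mem' := fun {a} ha => ⟨inv_mem ha.1, by rw [← mul_inv_rev, ha.2, inv_one]⟩ }
  have : commutator X ≤ E := by
    rw [_root_.commutator_def, commutator_le]
    exact fun a _ b _ => ⟨h.commutator_le_center (h.cm_mem a b), h.cm_sq a b⟩
  exact (this (h.commutator_eq_center ▸ hz)).2

theorem special : Cfsg.IsSpecial 2 X := by
  haveI : Fact (Nat.Prime 2) := ⟨Nat.prime_two⟩
  haveI := h.two.isNilpotent
  refine ⟨h.two, le_antisymm ?_ ?_, h.commutator_eq_center⟩
  · have := Cfsg.Agent.CharP.frattini_le_ker (p := 2) (QuotientGroup.mk' (center X)) (fun a b => by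
      show QuotientGroup.mk' (center X) a * QuotientGroup.mk' (center X) b =
        QuotientGroup.mk' (center X) b * QuotientGroup.mk' (center X) a
      rw [← cm_eq_one_iff, ← cm_map (QuotientGroup.mk' (center X))]
      exact (QuotientGroup.eq_one_iff _).mpr (h.commutator_le_center (h.cm_mem a b))) (fun a => by
      rw [pow_two, ← map_mul]
      exact (QuotientGroup.eq_one_iff _).mpr (h.sq_center a))
    rwa [QuotientGroup.ker_mk'] at this
  · rw [← h.commutator_eq_center]
    exact Cfsg.Agent.Coprime.commutator_le_frattini X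

theorem card_center : Nat.card (center X) = 2 ∨ Nat.card (center X) = 4 := by
  haveI : Fact (Nat.Prime 2) := ⟨Nat.prime_two⟩
  have hle := card_elementary_le h.two h.scn (center X) (fun a _ b hb => mem_center_iff.mp hb a)
    (fun a ha => h.center_exp ha)
  obtain ⟨m, hm⟩ := (h.two.to_subgroup (center X)).exists_card_eq
  obtain ⟨a, b, hab⟩ := h.nonab
  have hm0 : m ≠ 0 := fun e => by
    rw [e, pow_zero] at hm
    exact hab (mem_bot.mp ((eq_bot_of_card_eq _ hm) ▸ h.commutator_le_center (h.cm_mem a b)))
  rw [hm] at hle ⊢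
  have : m ≤ 2 := (Nat.pow_le_pow_iff_right (le_refl 2)).mp hle
  interval_cases m <;> omega

/-- A point moved only inside its coset of the centre is central. -/
theorem mem_center_of_coset {x : X} (hx : ∀ ψ ∈ A, ψ x * x⁻¹ ∈ center X) : x ∈ center X := by
  rw [← h.commutator_eq_center]
  refine h.mem_commutator_of_fix fun ψ hψ => odd_fix (odd_orderOf h.odd hψ) ?_
  have hz := hx ψ hψ
  set w := ψ x * x⁻¹
  have e : ψ x = w * x := (inv_mul_cancel_right _ _).symm
  calc ψ (ψ x) = ψ (w * x) := by rw [← e]
    _ = w * (w * x) := by rw [map_mul, h.fix_center hψ hz, e]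
    _ = x := by rw [← mul_assoc, h.center_exp hz, one_mul]

/-- No proper invariant normal subgroup of index two. -/
theorem no_index_two (R : Subgroup X) (hi : ∀ ψ ∈ A, ∀ x, x ∈ R ↔ ψ x ∈ R) (h2 : R.index = 2) : False := by
  have hle : closure {g : X | ∃ φ ∈ A, ∃ x : X, g = x⁻¹ * φ x} ≤ R := by
    rw [closure_le]
    rintro _ ⟨ψ, hψ, x, rfl⟩
    rw [SetLike.mem_coe, Subgroup.mul_mem_iff_of_index_two h2, inv_mem_iff]
    exact hi ψ hψ x
  rw [h.gen, top_le_iff] at hle
  rw [hle, index_top] at h2
  omega

/-- The centre does not have index eight. -/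
theorem not_index_eight (h8 : Nat.card X = 8 * Nat.card (center X)) : False := by
  classical
  haveI : Fact (Nat.Prime 2) := ⟨Nat.prime_two⟩
  obtain ⟨U, hUZ, hUlt, hU⟩ : ∃ U : Subgroup X, U ≤ center X ∧ U ≠ center X ∧
      ∀ a ∈ center X, ∀ b ∈ center X, a ∉ U → b ∉ U → a * b ∈ U := by
    rcases h.card_center with e | e
    · refine ⟨⊥, bot_le, fun e' => by rw [← e', card_bot] at e; omega, fun a ha b hb ha' hb' => ?_⟩
      rw [mem_bot] at ha' hb' ⊢
      have hab : a = b := by
        by_contra hne
        haveI := Fintype.ofFinite (center X)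
        let l : List (center X) := [1, ⟨a, ha⟩, ⟨b, hb⟩]
        have hnd : l.Nodup := by
          simp only [l, List.nodup_cons, List.mem_cons, List.not_mem_nil, or_false, not_or,
            List.nodup_nil, and_true, not_false_eq_true, ← Subtype.coe_inj, coe_one]
          exact ⟨⟨Ne.symm ha', Ne.symm hb'⟩, hne⟩
        have := hnd.length_le_card
        rw [← Nat.card_eq_fintype_card, e] at this
        simp [l] at this
      rw [← hab, h.center_exp ha]
    · obtain ⟨u, hu, hu1⟩ : ∃ u ∈ center X, u ≠ 1 := by
        by_contra! hall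
        rw [show center X = ⊥ from eq_bot_iff.mpr fun z hz => mem_bot.mpr (hall z hz), card_bot] at e
        omega
      have hord : orderOf u = 2 := orderOf_eq_prime (by rw [pow_two]; exact h.center_exp hu) hu1
      refine ⟨zpowers u, zpowers_le.mpr hu, fun e' => ?_, fun a ha b hb ha' hb' => ?_⟩
      · rw [← e', Nat.card_zpowers, hord] at e
        omega
      · have hua : u ≠ a := fun e' => ha' (e' ▸ mem_zpowers u)
        have ha1 : a ≠ 1 := fun e' => ha' (e' ▸ one_mem _)
        rcases mem_four e (fun z hz => h.center_exp hz) hu ha hb hu1 ha1 hua with e' | e' | e' | e'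
        · exact absurd (e' ▸ one_mem _) hb'
        · exact absurd (e' ▸ mem_zpowers u) hb'
        · rw [e', h.center_exp ha]; exact one_mem _
        · rw [e', ← mul_assoc, mem_center_iff.mp hu a, mul_assoc, h.center_exp ha, mul_one]
          exact mem_zpowers u
  let R : Subgroup X :=
    { carrier := {x | ∀ y, cm x y ∈ U}
      one_mem' := fun y => by simp [cm]
      mul_mem' := fun {a b} ha hb y => by rw [cm_mul_left (h.cm_central b y)]; exact mul_mem (ha y) (hb y)
      inv_mem' := fun {a} ha y => by
        have h0 : cm (a⁻¹ * a) y = 1 := by simp [cm]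
        rw [cm_mul_left (h.cm_central a y)] at h0
        rw [eq_inv_of_mul_eq_one_left h0]
        exact inv_mem (ha y) }
  have hZR : center X ≤ R := fun z hz y => by
    rw [cm_eq_one_iff.mpr (mem_center_iff.mp hz y).symm]; exact one_mem _
  have hRinv : ∀ ψ ∈ A, ∀ x, x ∈ R ↔ ψ x ∈ R := by
    intro ψ hψ x
    constructor
    · intro hx y
      rw [← ψ.apply_symm_apply y, ← cm_map ψ, h.fix_center hψ (hUZ (hx _))]
      exact hx _
    · intro hx y
      have := hx (ψ y)
      rwa [← cm_map ψ, h.fix_center hψ (h.commutator_le_center (h.cm_mem x y))] at this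
  have hRtop : R ≠ ⊤ := by
    intro e
    refine hUlt (le_antisymm hUZ ?_)
    rw [← h.commutator_eq_center, _root_.commutator_def, commutator_le]
    exact fun a _ b _ => (show a ∈ R from e ▸ mem_top a) b
  have hR : R = center X := by
    by_contra hne
    have hlt := lt_of_le_of_ne hZR (Ne.symm hne)
    have h2 := two_mul_card_le hlt
    rcases Nat.lt_or_ge (2 * Nat.card (center X)) (Nat.card R) with hbig | hsmall
    · -- index two
      refine h.no_index_two R hRinv ?_
      have hmul := R.card_mul_index
      obtain ⟨j, hj⟩ := (h.two.to_subgroup R).exists_card_eq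
      obtain ⟨i, hi⟩ := (h.two.to_subgroup (center X)).exists_card_eq
      have hj' : i + 2 ≤ j := by
        rw [hi, hj, ← pow_succ'] at hbig
        exact (Nat.pow_lt_pow_iff_right (by norm_num)).mp hbig
      have h4 : 4 * Nat.card (center X) ≤ Nat.card R := by
        rw [hi, hj, show 4 = 2 ^ 2 from rfl, ← pow_add]
        exact Nat.pow_le_pow_right (by norm_num) (by omega)
      have hne1 : R.index ≠ 1 := fun e => hRtop (index_eq_one.mp e)
      have hle2 : R.index ≤ 2 := by
        by_contra h3
        have := Nat.mul_le_mul h4 (show 3 ≤ R.index by omega)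
        rw [hmul, h8] at this
        have : 0 < Nat.card (center X) := Nat.card_pos
        omega
      have := R.index_ne_zero_of_finite
      omega
    · obtain ⟨x, hxR, hxZ⟩ := SetLike.exists_of_lt hlt
      refine hxZ (h.mem_center_of_coset fun ψ hψ => ?_)
      have hψx := (hRinv ψ hψ x).mp hxR
      by_contra hout
      -- `x`, `ψ x` and the centre generate more than `R`
      have l1 : center X < center X ⊔ zpowers x :=
        lt_of_le_of_ne le_sup_left fun e => hxZ (e ▸ mem_sup_right (mem_zpowers x))
      have l2 : center X ⊔ zpowers x ≤ R := sup_le hZR (zpowers_le.mpr hxR)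
      have l3 := two_mul_card_le l1
      have heq : center X ⊔ zpowers x = R := eq_of_le_of_card_ge l2 (by omega)
      have : ψ x ∈ center X ⊔ zpowers x := heq ▸ hψx
      obtain ⟨z, hz, v, hv, e⟩ := mem_sup_of_normal_left.mp this
      obtain ⟨i, rfl⟩ := mem_zpowers_iff.mp hv
      rcases Int.even_or_odd' i with ⟨j, rfl | rfl⟩
      · apply hxZ
        have hψZ : ψ x ∈ center X := by
          rw [← e, zpow_mul, zpow_two]
          exact mul_mem hz (zpow_mem (h.sq_center x) j)
        have := h.fix_center hψ hψZ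
        rw [ψ.injective this] at hψZ
        exact hψZ
      · apply hout
        rw [← e, zpow_add_one, zpow_mul, zpow_two, mul_assoc, mul_inv_cancel_right]
        exact mul_mem hz (zpow_mem (h.sq_center x) j)
  have radical : ∀ x, x ∉ center X → ∃ y, cm x y ∉ U := fun x hx => by
    by_contra! hall
    exact hx (hR ▸ (show x ∈ R from hall))
  let Cx : X → Subgroup X := fun x =>
    { carrier := {y | cm x y ∈ U}
      one_mem' := by simp [cm]
      mul_mem' := fun {a b} ha hb => by
        show cm x (a * b) ∈ U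
        rw [cm_mul_right (h.cm_central x b)]; exact mul_mem ha hb
      inv_mem' := fun {a} ha => by
        show cm x a⁻¹ ∈ U
        have h0 : cm x (a⁻¹ * a) = 1 := by simp [cm]
        rw [cm_mul_right (h.cm_central x a)] at h0
        rw [eq_inv_of_mul_eq_one_left h0]
        exact inv_mem ha }
  have Zc : ∀ x, center X ≤ Cx x := fun x z hz => by
    show cm x z ∈ U
    rw [cm_eq_one_iff.mpr (mem_center_iff.mp hz x)]; exact one_mem _
  have cx2 : ∀ x, x ∉ center X → Nat.card (Cx x) = 4 * Nat.card (center X) := by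
    intro x hx
    obtain ⟨y, hy⟩ := radical x hx
    have hidx : (Cx x).index = 2 := by
      rw [index_eq_two_iff]
      refine ⟨y, fun b => ?_⟩
      by_cases hb : b ∈ Cx x
      · exact Or.inr ⟨hb, fun e => hy ((mul_mem_cancel_left hb).mp e)⟩
      · refine Or.inl ⟨?_, hb⟩
        show cm x (b * y) ∈ U
        rw [cm_mul_right (h.cm_central x y)]
        exact hU _ (h.commutator_le_center (h.cm_mem x b)) _ (h.commutator_le_center (h.cm_mem x y)) hb hy
    have := (Cx x).card_mul_index
    rw [hidx, h8] at this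
    omega
  obtain ⟨x, -, hx⟩ := SetLike.exists_of_lt (show center X < ⊤ by
    refine lt_top_iff_ne_top.mpr fun e => ?_
    obtain ⟨a, b, hab⟩ := h.nonab
    exact hab (cm_eq_one_iff.mpr (mem_center_iff.mp (e ▸ mem_top b) a)))
  have hxx : x ∈ Cx x := by show cm x x ∈ U; rw [cm_self]; exact one_mem _
  have hP : center X ⊔ zpowers x ≤ Cx x := sup_le (Zc x) (zpowers_le.mpr hxx)
  have hPcard : Nat.card ↥(center X ⊔ zpowers x) ≤ 2 * Nat.card (center X) := by
    have hrel : (center X).relIndex (center X ⊔ zpowers x) ∣ 2 := by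
      have e := relIndex_ker (QuotientGroup.mk' (center X)) (K := center X ⊔ zpowers x)
      rw [QuotientGroup.ker_mk'] at e
      rw [e, Subgroup.map_sup, QuotientGroup.map_mk'_self, bot_sup_eq, MonoidHom.map_zpowers,
        Nat.card_zpowers, orderOf_dvd_iff_pow_eq_one, ← map_pow]
      exact (QuotientGroup.eq_one_iff _).mpr (by rw [pow_two]; exact h.sq_center x)
    have h2 := card_mul_index ((center X).subgroupOf (center X ⊔ zpowers x))
    rw [Nat.card_congr (subgroupOfEquivOfLe le_sup_left).toEquiv, ← Subgroup.relIndex] at h2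
    rw [← h2, mul_comm 2]
    exact Nat.mul_le_mul_left _ (Nat.le_of_dvd (by norm_num) hrel)
  obtain ⟨k, hk, hkP⟩ := SetLike.exists_of_lt (lt_of_le_of_ne hP fun e => by
    rw [e, cx2 x hx] at hPcard
    have : 0 < Nat.card (center X) := Nat.card_pos
    omega)
  have hkZ : k ∉ center X := fun e => hkP (mem_sup_left e)
  have hxk : x ∈ Cx k := by
    show cm k x ∈ U
    rw [← cm_inv]; exact inv_mem hk
  have hkk : k ∈ Cx k := by show cm k k ∈ U; rw [cm_self]; exact one_mem _
  have l1 : center X < center X ⊔ zpowers x :=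
    lt_of_le_of_ne le_sup_left fun e => hx (e ▸ mem_sup_right (mem_zpowers x))
  have l2 : center X ⊔ zpowers x < Cx x ⊓ Cx k := lt_of_le_of_ne
    (le_inf hP (sup_le (Zc k) (zpowers_le.mpr hxk))) fun e => hkP (e ▸ mem_inf.mpr ⟨hk, hkk⟩)
  have l3 := two_mul_card_le l1
  have l4 := two_mul_card_le l2
  have e1 : Cx x ⊓ Cx k = Cx x := eq_of_le_of_card_ge inf_le_left (by rw [cx2 x hx]; omega)
  have e2 : Cx x ⊓ Cx k = Cx k := eq_of_le_of_card_ge inf_le_right (by rw [cx2 k hkZ]; omega)
  have hmem : x * k ∈ R := fun y => by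
    rw [cm_mul_left (h.cm_central k y)]
    by_cases hy : cm x y ∈ U
    · exact mul_mem hy (show y ∈ Cx k by rw [← e2, e1]; exact hy)
    · refine hU _ (h.commutator_le_center (h.cm_mem x y)) _ (h.commutator_le_center (h.cm_mem k y)) hy
        fun hky => hy ?_
      exact (show y ∈ Cx x by rw [← e1, e2]; exact hky)
  rw [hR] at hmem
  refine hkP ?_
  rw [show k = x⁻¹ * (x * k) by group]
  exact mul_mem (inv_mem (mem_sup_right (mem_zpowers x))) (mem_sup_left hmem)

/-- An involution central modulo a centre of order four is central. -/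
theorem inv_mem_center (h4 : Nat.card (center X) = 4) {t : X} (ht : t * t = 1) : t ∈ center X :=
  mem_of_central_mod h.two h.scn (fun w hw z => mem_center_iff.mp hw z) (fun w hw => h.center_exp hw)
    h4.ge ht fun y => h.commutator_le_center (h.cm_mem y t)

theorem noncentral_mod_small : ¬ Nat.card X ≤ 2 * Nat.card (center X) := by
  intro hle
  obtain ⟨a, b, hab⟩ := h.nonab
  have haZ : a ∉ center X := fun e => hab (cm_eq_one_iff.mpr (mem_center_iff.mp e b).symm)
  have l1 : center X < center X ⊔ zpowers a :=
    lt_of_le_of_ne le_sup_left fun e => haZ (e ▸ mem_sup_right (mem_zpowers a))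
  have l3 := two_mul_card_le l1
  have e : center X ⊔ zpowers a = ⊤ := eq_of_le_of_card_ge le_top (by rw [card_top]; omega)
  have hb : b ∈ center X ⊔ zpowers a := e ▸ mem_top b
  obtain ⟨z, hz, v, hv, rfl⟩ := mem_sup_of_normal_left.mp hb
  obtain ⟨i, rfl⟩ := mem_zpowers_iff.mp hv
  refine hab (cm_eq_one_iff.mpr ?_)
  rw [← mul_assoc, mem_center_iff.mp hz a, mul_assoc, (Commute.self_zpow a i).eq]
  exact (mul_assoc z _ _).symm

theorem of_center_four (h4 : Nat.card (center X) = 4) :
    Cfsg.IsSpecial 2 X ∧ Nat.card X = 64 ∧ Nat.card {x : X // orderOf x = 2} = 3 ∧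
      ∀ x : X, orderOf x = 2 → x ∈ Subgroup.center X := by
  classical
  haveI : Fact (Nat.Prime 2) := ⟨Nat.prime_two⟩
  have hbound := card_le_of_sq h.two (S := ⊤) (D := center X) (W := center X) le_rfl le_top
    (fun w hw z => mem_center_iff.mp hw z) (fun w hw => h.center_exp hw)
    (fun d hd s _ => mem_center_iff.mp hd s) (fun s _ => h.sq_center s)
    (fun a _ b _ => h.commutator_le_center (h.cm_mem a b))
    (fun s _ => ⟨h.inv_mem_center h4, h.center_exp⟩) (n := 2) h4
  rw [card_top, h4] at hbound
  obtain ⟨m, hm⟩ := h.two.exists_card_eq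
  obtain ⟨a, b, hab⟩ := h.nonab
  have hbig : ¬ Nat.card X ≤ 4 * Nat.card (center X) := by
    intro hle
    have hall := comm_of_small (W := center X) (Z := center X) (S := ⊤) le_top
      (fun z hz s _ => mem_center_iff.mp hz s) (fun w hw z => mem_center_iff.mp hw z)
      (fun w hw => h.center_exp hw) (fun x _ y _ => h.commutator_le_center (h.cm_mem x y))
      (by rw [card_top]; exact hle) (mem_top a) (mem_top b) hab
    have : commutator X ≤ zpowers (cm a b) := by
      rw [_root_.commutator_def, commutator_le]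
      intro x _ y _
      show cm x y ∈ zpowers (cm a b)
      rcases hall x (mem_top x) y (mem_top y) with e | e <;> rw [e]
      · exact one_mem _
      · exact mem_zpowers _
    rw [h.commutator_eq_center] at this
    have h2 := Nat.card_le_card_of_injective _ (Subgroup.inclusion_injective this)
    rw [h4, Nat.card_zpowers, orderOf_eq_prime (by rw [pow_two]; exact h.cm_sq a b) hab] at h2
    omega
  have h64 : Nat.card X = 64 := by
    rw [h4] at hbig
    rw [hm] at hbound hbig ⊢
    have : m ≤ 6 := (Nat.pow_le_pow_iff_right (le_refl 2)).mp hbound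
    have : 5 ≤ m := by
      by_contra hlt
      exact hbig (Nat.pow_le_pow_right (n := 2) (by norm_num) (show m ≤ 4 by omega))
    interval_cases m
    · exact (h.not_index_eight (by rw [h4, hm]; norm_num)).elim
    · norm_num
  have hiff : ∀ z : X, orderOf z = 2 ↔ z ∈ center X ∧ z ≠ 1 := fun z => by
    constructor
    · intro hz
      refine ⟨h.inv_mem_center h4 ?_, fun e => by rw [e, orderOf_one] at hz; omega⟩
      rw [← pow_two, ← hz, pow_orderOf_eq_one]
    · rintro ⟨hz, hz1⟩
      exact orderOf_eq_prime (by rw [pow_two]; exact h.center_exp hz) hz1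
  refine ⟨h.special, h64, ?_, fun z hz => ((hiff z).mp hz).1⟩
  have hset : {z : X | orderOf z = 2} = (center X : Set X) \ {1} := by
    ext z
    simpa using hiff z
  show Nat.card ↥{z : X | orderOf z = 2} = 3
  rw [Nat.card_coe_set_eq, hset, Set.ncard_sdiff_singleton_of_mem (one_mem (center X)),
    ← Nat.card_coe_set_eq, SetLike.coe_sort_coe, h4]

theorem of_center_two (h2 : Nat.card (center X) = 2) :
    Nonempty (X ≃* QuaternionGroup 2) ∨
      (Cfsg.IsExtraspecial 2 X ∧ Nat.card X = 32 ∧ Nat.card {x : X // orderOf x = 2} = 11) := by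
  classical
  haveI : Fact (Nat.Prime 2) := ⟨Nat.prime_two⟩
  haveI := Fintype.ofFinite X
  have hZexp : ∀ w ∈ center X, w * w = 1 := fun w hw => h.center_exp hw
  have hZc : ∀ w ∈ center X, ∀ z : X, z * w = w * z := fun w hw z => mem_center_iff.mp hw z
  have hcmZ : ∀ a b : X, cm a b ∈ center X := fun a b => h.commutator_le_center (h.cm_mem a b)
  have hZ2 : ∀ a ∈ center X, ∀ b ∈ center X, a ≠ 1 → b ≠ 1 → a = b := by
    intro a ha b hb ha1 hb1
    by_contra hne
    let l : List (center X) := [1, ⟨a, ha⟩, ⟨b, hb⟩]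
    have hnd : l.Nodup := by
      simp only [l, List.nodup_cons, List.mem_cons, List.not_mem_nil, or_false, not_or,
        List.nodup_nil, and_true, not_false_eq_true, ← Subtype.coe_inj, coe_one]
      exact ⟨⟨Ne.symm ha1, Ne.symm hb1⟩, hne⟩
    have := hnd.length_le_card
    rw [← Nat.card_eq_fintype_card, h2] at this
    simp [l] at this
  obtain ⟨m, hm⟩ := h.two.exists_card_eq
  have hm3 : 3 ≤ m := by
    by_contra hlt
    refine h.noncentral_mod_small ?_
    rw [hm, h2]
    exact (Nat.pow_le_pow_right (by norm_num) (show m ≤ 2 by omega)).trans (by norm_num)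
  have hm4 : m ≠ 4 := fun e => h.not_index_eight (by rw [h2, hm, e]; norm_num)
  by_cases hv : ∃ v : X, v * v = 1 ∧ v ∉ center X
  swap
  · -- no noncentral involution
    push Not at hv
    have hb := card_le_of_sq h.two (S := ⊤) (D := center X) (W := center X) le_rfl le_top hZc hZexp
      (fun d hd s _ => hZc d hd s) (fun s _ => h.sq_center s) (fun a _ b _ => hcmZ a b)
      (fun s _ => ⟨hv s, h.center_exp⟩) (n := 1) h2
    rw [card_top, h2, hm] at hb
    have : m ≤ 3 := (Nat.pow_le_pow_iff_right (le_refl 2)).mp (hb.trans (by norm_num))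
    obtain rfl : m = 3 := by omega
    left
    rcases Cfsg.Agent.PGroups.UniqueSubgroup.isCyclic_or_quaternion h.two (fun H K hH hK => by
      have key : ∀ H : Subgroup X, Nat.card H = 2 → H = center X := fun H hH => by
        refine eq_of_le_of_card_ge (fun x hx => hv x ?_) (by rw [hH, h2])
        have : (⟨x, hx⟩ : H) ^ 2 = 1 := by rw [← hH]; exact pow_card_eq_one'
        simpa [pow_two] using congrArg Subtype.val this
      rw [key H hH, key K hK]) with hcyc | ⟨-, n, ⟨e⟩⟩
    · obtain ⟨a, b, hab⟩ := h.nonab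
      letI := hcyc.commGroup
      exact absurd (cm_eq_one_iff.mpr (mul_comm a b)) hab
    · have hc := Nat.card_congr e.toEquiv
      rw [Nat.card_eq_fintype_card (α := QuaternionGroup (2 ^ n)), QuaternionGroup.card, hm] at hc
      obtain rfl : n = 1 := Nat.pow_right_injective (le_refl 2) (by simp at hc ⊢; omega)
      exact ⟨e⟩
  obtain ⟨v, hv2, hvZ⟩ := hv
  obtain ⟨z, hz, hz1⟩ : ∃ z ∈ center X, z ≠ 1 := by
    obtain ⟨a, b, hab⟩ := h.nonab
    exact ⟨_, hcmZ a b, hab⟩
  let H : Subgroup X :=
    { carrier := {y | cm v y = 1}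
      one_mem' := by simp [cm]
      mul_mem' := fun {a b} ha hb => by
        show cm v (a * b) = 1
        rw [cm_mul_right (h.cm_central v b), ha, hb, one_mul]
      inv_mem' := fun {a} ha => by
        show cm v a⁻¹ = 1
        have h0 : cm v (a⁻¹ * a) = 1 := by simp [cm]
        rwa [cm_mul_right (h.cm_central v a), ha, mul_one] at h0 }
  have hvH : v ∈ H := cm_self v
  have hZH : center X ≤ H := fun w hw => cm_eq_one_iff.mpr (hZc w hw v)
  have outz : ∀ y, y ∉ H → cm v y = z := fun y hy => hZ2 _ (hcmZ v y) z hz hy hz1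
  have hidx : H.index = 2 := by
    obtain ⟨y, hy⟩ : ∃ y, y ∉ H := by
      by_contra! hall
      exact hvZ (mem_center_iff.mpr fun g => (cm_eq_one_iff.mp (hall g)).symm)
    rw [index_eq_two_iff]
    refine ⟨y, fun b => ?_⟩
    by_cases hb : b ∈ H
    · exact Or.inr ⟨hb, fun e => hy ((mul_mem_cancel_left hb).mp e)⟩
    · refine Or.inl ⟨?_, hb⟩
      show cm v (b * y) = 1
      rw [cm_mul_right (h.cm_central v y), outz b hb, outz y hy, hZexp z hz]
  let D : Subgroup X := center X ⊔ zpowers v
  have hD : ∀ d ∈ D, ∀ s ∈ H, s * d = d * s := by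
    intro d hd s hs
    obtain ⟨w, hw, u, hu, rfl⟩ := mem_sup_of_normal_left.mp hd
    obtain ⟨i, rfl⟩ := mem_zpowers_iff.mp hu
    rw [← mul_assoc, hZc w hw s, mul_assoc, mul_assoc,
      ((show Commute v s from cm_eq_one_iff.mp hs).zpow_left i).eq]
  have hDH : D ≤ H := sup_le hZH (zpowers_le.mpr hvH)
  have hDexp : ∀ d ∈ D, d * d = 1 := by
    intro d hd
    obtain ⟨w, hw, u, hu, rfl⟩ := mem_sup_of_normal_left.mp hd
    obtain ⟨i, rfl⟩ := mem_zpowers_iff.mp hu
    rw [mul_assoc, ← mul_assoc (v ^ i) w, hZc w hw (v ^ i), mul_assoc w (v ^ i),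
      ← (Commute.refl v).mul_zpow, hv2, one_zpow, mul_one, hZexp w hw]
  have hDcard : Nat.card D = 4 := by
    haveI : D.Normal := Cfsg.Agent.PGroups.AbelianNormal.normal_sup_zpowers fun g => hcmZ g v
    have hle := card_elementary_le h.two h.scn D (fun a ha b hb => hD b hb a (hDH ha)) hDexp
    have hlt : center X < D :=
      lt_of_le_of_ne le_sup_left fun e => hvZ (e ▸ mem_sup_right (mem_zpowers v))
    have := two_mul_card_le hlt
    omega
  have hanis : ∀ s ∈ H, s * s = 1 → s ∈ D := by
    intro s hs hs2
    by_contra hsD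
    have hcomm : ∀ a ∈ D ⊔ zpowers s, ∀ b ∈ D ⊔ zpowers s, a * b = b * a := by
      haveI : IsMulCommutative D := ⟨⟨fun a b => Subtype.ext (hD b b.2 a (hDH a.2))⟩⟩
      have hc := Cfsg.Agent.PGroups.AbelianNormal.le_centralizer_sup_zpowers (B := D) (x := s)
        (mem_centralizer_iff.mpr fun d hd => (hD d hd s hs).symm)
      exact fun a ha b hb => mem_centralizer_iff.mp (hc hb) a ha
    haveI : (D ⊔ zpowers s).Normal := ⟨fun x hx g => by
      rw [show g * x * g⁻¹ = cm g x * x by simp only [cm]; group]
      exact mul_mem (mem_sup_left (mem_sup_left (hcmZ g x))) hx⟩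
    have hle := card_elementary_le h.two h.scn (D ⊔ zpowers s) hcomm (fun a ha => by
      haveI : D.Normal := Cfsg.Agent.PGroups.AbelianNormal.normal_sup_zpowers fun g => hcmZ g v
      obtain ⟨d, hd, u, hu, rfl⟩ := mem_sup_of_normal_left.mp ha
      obtain ⟨i, rfl⟩ := mem_zpowers_iff.mp hu
      have hcd : s ^ i * d = d * s ^ i :=
        hcomm _ (mem_sup_right (zpow_mem (mem_zpowers s) i)) _ (mem_sup_left hd)
      rw [mul_assoc, ← mul_assoc (s ^ i) d, hcd, mul_assoc d (s ^ i),
        ← (Commute.refl s).mul_zpow, hs2, one_zpow, mul_one, hDexp d hd])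
    have hlt : D < D ⊔ zpowers s :=
      lt_of_le_of_ne le_sup_left fun e => hsD (e ▸ mem_sup_right (mem_zpowers s))
    have := two_mul_card_le hlt
    omega
  have hHcard : 2 * Nat.card H = Nat.card X := by
    have := H.card_mul_index
    rw [hidx] at this
    omega
  have hb := card_le_of_sq h.two (S := H) (D := D) (W := center X) le_sup_left hDH hZc hZexp hD
    (fun s _ => h.sq_center s) (fun a _ b _ => hcmZ a b)
    (fun s hs => ⟨hanis s hs, hDexp s⟩) (n := 1) h2
  rw [hDcard] at hb
  have hm5 : m ≤ 5 := by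
    refine (Nat.pow_le_pow_iff_right (le_refl 2)).mp ?_
    rw [← hm]
    simp only [Nat.reducePow, Nat.reduceMul] at hb ⊢
    omega
  have hcases : m = 3 ∨ m = 5 := by omega
  rcases hcases with rfl | rfl
  · -- dihedral: excluded
    exfalso
    have hH4 : D = H := eq_of_le_of_card_ge hDH (by rw [hDcard]; rw [hm] at hHcard; omega)
    have inD : ∀ y, y ∈ H → y * v⁻¹ ∈ center X ∨ y ∈ center X := by
      intro y hy
      obtain ⟨w, hw, u, hu, rfl⟩ := mem_sup_of_normal_left.mp (show y ∈ D by rw [hH4]; exact hy)
      obtain ⟨i, rfl⟩ := mem_zpowers_iff.mp hu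
      rcases Int.even_or_odd' i with ⟨j, rfl | rfl⟩
      · right; rw [zpow_mul, zpow_two, hv2, one_zpow, mul_one]; exact hw
      · left; rw [zpow_add_one, zpow_mul, zpow_two, hv2, one_zpow, one_mul, mul_inv_cancel_right]; exact hw
    refine hvZ (h.mem_center_of_coset fun ψ hψ => ?_)
    by_contra hout
    set v' := ψ v
    have hv'2 : v' * v' = 1 := by simp only [v', ← map_mul, hv2, map_one]
    have hv'Z : v' ∉ center X := fun e => hvZ (by
      have := h.fix_center hψ e
      rwa [ψ.injective this] at e)
    have hv'H : v' ∉ H := fun e => (inD v' e).elim hout hv'Z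
    set v'' := ψ v'
    have hv''2 : v'' * v'' = 1 := by simp only [v'', ← map_mul, hv'2, map_one]
    have hne : cm v' v'' ≠ 1 := fun e => hv'H (by
      show cm v v' = 1
      have h' : cm v' v'' = ψ (cm v v') := by rw [cm_map ψ]
      rw [h'] at e
      simpa using e)
    have hv''H : v'' ∈ H := by
      by_contra hn
      have hd : v'⁻¹ * v'' ∈ H := (Subgroup.mul_mem_iff_of_index_two hidx).mpr (by
        simp only [inv_mem_iff]
        exact iff_of_false hv'H hn)
      rcases inD _ hd with e | e
      · set c := v'⁻¹ * v'' * v⁻¹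
        have e1 : v'' = c * (v' * v) := by
          rw [← mul_assoc, ← hZc c e v']; simp only [c]; group
        have e2 : v' * v * (v' * v) = 1 := by
          have := hv''2
          rw [e1, mul_assoc, ← mul_assoc (v' * v) c, hZc c e (v' * v), mul_assoc c (v' * v), ← mul_assoc,
            hZexp c e, one_mul] at this
          exact this
        refine hv'H (cm_eq_one_iff.mpr ?_)
        have hi : v'⁻¹ = v' := inv_eq_iff_mul_eq_one.mpr hv'2
        have hi2 : v⁻¹ = v := inv_eq_iff_mul_eq_one.mpr hv2
        calc v * v' = (v' * v)⁻¹ := by rw [mul_inv_rev, hi, hi2]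
          _ = v' * v := inv_eq_iff_mul_eq_one.mpr e2
      · refine hne ?_
        rw [show v'' = v' * (v'⁻¹ * v'') by group, cm_mul_right (fun g => h.cm_central _ _ g), cm_self,
          one_mul, cm_eq_one_iff]
        exact hZc _ e v'
    rcases inD v'' hv''H with e | e
    · have h4 : ψ (ψ v) = v'' * v⁻¹ * v := by simp only [v'', v']; group
      have hfix2 : ψ (ψ (ψ (ψ v))) = v := by
        rw [h4, map_mul, map_mul, h.fix_center hψ e, h.fix_center hψ e, h4, ← mul_assoc,
          hZexp _ e, one_mul]
      have h22 : (ψ * ψ) v = v := odd_fix (by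
        rw [← pow_two, Nat.Coprime.orderOf_pow (Nat.coprime_two_right.mpr (odd_orderOf h.odd hψ))]
        exact odd_orderOf h.odd hψ) (by simp only [MulAut.mul_apply]; exact hfix2)
      have h1' : ψ v = v := odd_fix (odd_orderOf h.odd hψ) (by simpa [MulAut.mul_apply] using h22)
      exact hout (by simp only [v', h1', mul_inv_cancel]; exact one_mem _)
    · refine hv'Z ?_
      have := h.fix_center hψ e
      rwa [ψ.injective this] at e
  · right
    refine ⟨⟨h.special, h2⟩, by rw [hm]; norm_num, ?_⟩
    let T : Finset X := Finset.univ.filter fun x => x * x = 1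
    have hH16 : Nat.card H = 16 := by rw [hm] at hHcard; simp only [Nat.reducePow] at hHcard; omega
    have hTH : (T.filter fun x => x ∈ H).card = 4 := by
      rw [← hDcard, Nat.card_eq_fintype_card, Fintype.card_subtype]
      congr 1
      ext x
      simp only [T, Finset.mem_filter, Finset.mem_univ, true_and]
      exact ⟨fun hx => hanis x hx.2 hx.1, fun hx => ⟨hDexp x hx, hDH hx⟩⟩
    have hout : (T.filter fun x => x ∉ H).card = 8 := by
      let O : Finset X := Finset.univ.filter fun x => x ∉ H
      have hO : O.card = 16 := by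
        have e1 := Finset.card_filter_add_card_filter_not (s := (Finset.univ : Finset X))
          (fun x => x ∈ H)
        have e2 : (Finset.univ.filter fun x : X => x ∈ H).card = 16 := by
          rw [← hH16, Nat.card_eq_fintype_card, Fintype.card_subtype]
        rw [e2, Finset.card_univ, ← Nat.card_eq_fintype_card, hm] at e1
        norm_num at e1
        simp only [O]
        omega
      have flip : ∀ x, x ∉ H → x * v * (x * v) = z * (x * x) := by
        intro x hx
        have hc := h.cm_central v x
        calc x * v * (x * v) = x * (cm v x * (x * v)) * v := by simp only [cm]; group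
          _ = cm v x * (x * x) * (v * v) := by rw [← mul_assoc x (cm v x), hc x]; group
          _ = z * (x * x) := by rw [hv2, mul_one, outz x hx]
      have memout : ∀ x, x ∉ H → x * v ∉ H := fun x hx e => hx ((mul_mem_cancel_right hvH).mp e)
      have sqv : ∀ x, x * x = 1 ∨ x * x = z := fun x =>
        or_iff_not_imp_left.mpr fun hne => hZ2 _ (h.sq_center x) z hz hne hz1
      have heq : (O.filter fun x => x * x = 1).card = (O.filter fun x => ¬ x * x = 1).card := by
        refine Finset.card_nbij' (fun x => x * v) (fun x => x * v) ?_ ?_ ?_ ?_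
        · intro x hx
          simp only [O, Finset.coe_filter, Finset.mem_filter, Finset.mem_univ, true_and,
            Set.mem_setOf_eq] at hx ⊢
          exact ⟨memout x hx.1, by rw [flip x hx.1, hx.2, mul_one]; exact hz1⟩
        · intro x hx
          simp only [O, Finset.coe_filter, Finset.mem_filter, Finset.mem_univ, true_and,
            Set.mem_setOf_eq] at hx ⊢
          exact ⟨memout x hx.1, by rw [flip x hx.1, (sqv x).resolve_left hx.2, hZexp z hz]⟩
        · intro x _
          show x * v * v = x
          rw [mul_assoc, hv2, mul_one]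
        · intro x _
          show x * v * v = x
          rw [mul_assoc, hv2, mul_one]
      have hsum := Finset.card_filter_add_card_filter_not (s := O) (fun x => x * x = 1)
      rw [← heq, hO] at hsum
      have : T.filter (fun x => x ∉ H) = O.filter fun x => x * x = 1 := by
        ext x
        simp only [T, O, Finset.mem_filter, Finset.mem_univ, true_and]
        exact and_comm
      rw [this]
      omega
    have hT : T.card = 12 := by
      rw [← Finset.card_filter_add_card_filter_not (s := T) (fun x => x ∈ H), hTH, hout]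
    rw [Nat.card_eq_fintype_card, Fintype.card_subtype]
    have : (Finset.univ.filter fun x : X => orderOf x = 2) = T.erase 1 := by
      ext x
      simp only [T, Finset.mem_filter, Finset.mem_univ, true_and, Finset.mem_erase]
      constructor
      · intro hx
        exact ⟨fun e => by rw [e, orderOf_one] at hx; omega, by rw [← pow_two, ← hx, pow_orderOf_eq_one]⟩
      · rintro ⟨hx1, hx2⟩
        exact orderOf_eq_prime (by rw [pow_two]; exact hx2) hx1
    rw [this, Finset.card_erase_of_mem (by simp [T]), hT]

end FixSetup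

end Cfsg.Agent.Components.SmallScn
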