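import Cfsg.Agent.Lib.Components.SmallScn.Transitive

/-!
The centralizer of the layer is everything when the layer has order sixteen, and is `W` when it
has order sixty-four.
-/

set_option autoImplicit false
set_option linter.all false

namespace Cfsg.Agent.Components.SmallScn

open Subgroup
open scoped commutatorElement

universe u

variable {X : Type u} [Group X] [Finite X] {W : Subgroup X} {φ : MulAut X} {Ψ : Set (MulAut X)}

namespace Setup

variable (h : Setup W φ Ψ)
include h

theorem conj_K {k : X} (hk : k ∈ h.K) (x : X) : x * k * x⁻¹ = cm x k * k := by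
  simp only [cm]; group

/-- The squares act trivially on the layer. -/
theorem sq_cent (x : X) : x * x ∈ centralizer (h.K : Set X) := by
  refine mem_centralizer_iff.mpr fun k hk => ?_
  have hc := hk.2 x
  have hk' : cm (x * x) k = 1 := by
    rw [cm_mul_left (h.central _ hc)]
    exact h.exp _ hc
  exact (cm_eq_one_iff.mp hk').symm

/-- The large case. -/
theorem of_sixty_four (h64 : Nat.card h.K = 64) :
    Nat.card X = 64 ∧ h.K = ⊤ ∧ (∃ x y : X, x * y ≠ y * x) ∧ center X = W := by
  classical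
  haveI := h.K_normal
  -- non-commutative
  have hnc : ¬ ∀ a ∈ h.K, ∀ b ∈ h.K, a * b = b * a := by
    intro hc
    have hmem : ∀ k : h.K, (k : X) * k ∈ W := fun k => k.2.1
    let s : h.K →* W :=
      { toFun := fun k => ⟨(k : X) * k, hmem k⟩
        map_one' := by simp
        map_mul' := fun a b => Subtype.ext (by
          show (a : X) * b * (a * b) = a * a * (b * b)
          rw [mul_assoc (a : X) b, ← mul_assoc (b : X) a, hc b b.2 a a.2]
          group) }
    have hker : Nat.card s.ker ≤ 4 := by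
      rw [← h.card]
      refine Nat.card_le_card_of_injective (fun k : s.ker => (⟨((k : h.K) : X),
        h.anis (k : h.K).2 (congrArg Subtype.val (MonoidHom.mem_ker.mp k.2))⟩ : W)) ?_
      intro a b hab
      simp only [Subtype.mk.injEq] at hab
      exact Subtype.ext (Subtype.ext hab)
    have hrange : Nat.card s.range ≤ 4 := by
      rw [← h.card]
      exact Subgroup.card_le_card_group s.range
    have hcard := s.ker.card_eq_card_quotient_mul_card_subgroup
    rw [Nat.card_congr (QuotientGroup.quotientKerEquivRange s).toEquiv, h64] at hcard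
    have := Nat.mul_le_mul hrange hker
    omega
  have hZ : h.K ⊓ centralizer (h.K : Set X) ≤ W := by
    intro z hz
    by_contra hzW
    set Z := h.K ⊓ centralizer (h.K : Set X)
    have hZinv : ∀ c ∈ Z, φ c ∈ Z := by
      intro c hc
      obtain ⟨hc1, hc2⟩ := mem_inf.mp hc
      refine mem_inf.mpr ⟨h.K_inv hc1, mem_centralizer_iff.mpr fun k hk => ?_⟩
      have hk' : φ (φ k) ∈ h.K := h.K_inv (h.K_inv hk)
      -- transport along `φ`
      obtain ⟨j, hj⟩ : ∃ j ∈ h.K, φ j = k := by
        have hinj : Function.Injective (fun j : h.K => (⟨φ j, h.K_inv j.2⟩ : h.K)) := fun a b e =>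
          Subtype.ext (φ.injective (congrArg Subtype.val e))
        obtain ⟨⟨j, hj⟩, e⟩ := (Finite.injective_iff_surjective.mp hinj) ⟨k, hk⟩
        exact ⟨j, hj, congrArg Subtype.val e⟩
      rw [← hj.2, ← map_mul, ← map_mul, mem_centralizer_iff.mp hc2 j hj.1]
    have hzz : z * z ≠ 1 := fun e => hzW (h.anis hz.1 e)
    refine hnc fun a ha b hb => ?_
    obtain ⟨c, hcZ, hc⟩ := h.sq_surj hZinv hz hz.1.1 hzz ha.1
    have hcomm : a * c = c * a := mem_centralizer_iff.mp hcZ.2 a ha
    have hac : a * c⁻¹ ∈ W := by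
      refine h.anis (mul_mem ha (inv_mem hcZ.1)) ?_
      rw [mul_assoc, ← mul_assoc c⁻¹ a, ← ((show Commute a c from hcomm).inv_right).eq,
        mul_assoc a c⁻¹ c⁻¹, ← mul_assoc a a, ← hc]
      group
    have e : a = a * c⁻¹ * c := by group
    rw [e, mul_assoc, ← mem_centralizer_iff.mp hcZ.2 b hb, ← mul_assoc, ← h.central _ hac b,
      mul_assoc]
  have hC : centralizer (h.K : Set X) ≤ W := by
    by_contra hne
    have hlt : W < centralizer (h.K : Set X) :=
      lt_of_le_not_ge (fun w hw => mem_centralizer_iff.mpr fun k _ => h.central w hw k) hne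
    obtain ⟨x, hx, hxK, hxW⟩ := h.step hlt
    exact hxW (hZ (mem_inf.mpr ⟨hxK, hx⟩))
  have htop := h.eq_top_of_squares fun x => hC (h.sq_cent x)
  have hX : Nat.card X = 64 := by rw [← h64, htop, card_top]
  refine ⟨hX, htop, ?_, ?_⟩
  · by_contra! hc
    exact hnc fun a _ b _ => hc a b
  · refine le_antisymm (fun z hz => hC (mem_centralizer_iff.mpr fun k _ => mem_center_iff.mp hz k)) ?_
    exact fun w hw => mem_center_iff.mpr fun g => h.central w hw g

section Sixteen

variable (h16 : Nat.card h.K = 16)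
include h16

theorem K_ne : ∃ k ∈ h.K, k ∉ W := by
  by_contra! hc
  have := Nat.card_le_card_of_injective _ (Subgroup.inclusion_injective (show h.K ≤ W from hc))
  rw [h16, h.card] at this
  omega

theorem sqinj {k l : X} (hk : k ∈ h.K) (hl : l ∈ h.K) (e : k * k = l * l) : k * l⁻¹ ∈ W := by
  refine h.anis (mul_mem hk (inv_mem hl)) ?_
  rw [mul_assoc, ← mul_assoc l⁻¹ k, h.K_comm_of_sixteen h16 _ (inv_mem hl) _ hk,
    mul_assoc k l⁻¹ l⁻¹, ← mul_assoc k k, e]
  group

theorem surj {w : X} (hw : w ∈ W) : ∃ k ∈ h.K, k * k = w := by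
  obtain ⟨k, hk, hkW⟩ := h.K_ne h16
  exact h.sq_surj (fun x hx => h.K_inv hx) hk hk.1 (fun e => hkW (h.anis hk e)) hw

/-- In a subgroup centralising `K` with all involutions in `W`, a small criterion to lie in `W`. -/
theorem mem_W_of_pow {M : Subgroup X} (hKM : h.K ≤ M) (hMC : M ≤ centralizer (h.K : Set X))
    (hM : ∀ t ∈ M, t * t = 1 → t ∈ W) {c : X} (hc : c ∈ M)
    (hz : ∀ z ∈ zpowers c, z ∈ h.K → z ∈ W) : c ∈ W := by
  have inK : ∀ z ∈ M, z * z ∈ W → z ∈ h.K := by
    intro z hzM hzW
    obtain ⟨k, hk, e⟩ := h.surj h16 hzW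
    have hcomm : k * z = z * k := mem_centralizer_iff.mp (hMC hzM) k hk
    have : z * k⁻¹ ∈ W := by
      refine hM _ (mul_mem hzM (inv_mem (hKM hk))) ?_
      rw [mul_assoc, ← mul_assoc k⁻¹ z, (show Commute k z from hcomm).inv_left.eq,
        mul_assoc z k⁻¹ k⁻¹, ← mul_assoc z z, ← e]
      group
    rw [show z = z * k⁻¹ * k by group]
    exact mul_mem (h.W_le_K this) hk
  have key : ∀ n : ℕ, ∀ c ∈ M, (∀ z ∈ zpowers c, z ∈ h.K → z ∈ W) → c ^ 2 ^ n = 1 → c ∈ W := by
    intro n
    induction n with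
    | zero => intro c _ _ e; rw [pow_zero, pow_one] at e; rw [e]; exact one_mem W
    | succ n ih =>
      intro c hc hz e
      have h2 : c * c ∈ W := ih _ (mul_mem hc hc)
        (fun z hz' => hz z ((zpowers_le.mpr (mul_mem (mem_zpowers c) (mem_zpowers c))) hz'))
        (by rw [← pow_two, ← pow_mul, ← pow_succ']; exact e)
      exact hz c (mem_zpowers c) (inK c hc h2)
  obtain ⟨n, hn⟩ := h.two c
  exact key n c hc hz hn

theorem K_le_cent : h.K ≤ centralizer (h.K : Set X) := fun k hk =>
  mem_centralizer_iff.mpr fun l hl => h.K_comm_of_sixteen h16 l hl k hk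

/-- No involution outside `W` centralises `K`. -/
theorem cent_anis {t : X} (ht : t ∈ centralizer (h.K : Set X)) (ht2 : t * t = 1) : t ∈ W := by
  classical
  by_contra htW
  haveI := h.K_normal
  haveI : (centralizer (h.K : Set X)).Normal := normal_centralizer (H := h.K)
  obtain ⟨N, ⟨hNn, hKN, hNC, t, htN, ht2, htW⟩, hmin⟩ := (wellFounded_lt (α := Subgroup X)).has_min
    {N | N.Normal ∧ h.K ≤ N ∧ N ≤ centralizer (h.K : Set X) ∧ ∃ t ∈ N, t * t = 1 ∧ t ∉ W}
    ⟨centralizer (h.K : Set X), inferInstance, h.K_le_cent h16, le_rfl, t, ht, ht2, htW⟩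
  haveI := hNn
  haveI : Fact (Nat.Prime 2) := ⟨Nat.prime_two⟩
  set M := ⁅N, (⊤ : Subgroup X)⁆ ⊔ h.K with hMdef
  have hMN : M ≤ N := sup_le (commutator_le_left _ _) hKN
  have hlt : M < N := by
    refine lt_of_le_of_ne hMN fun e => ?_
    haveI := h.two.isNilpotent
    have hall : ∀ n, N ≤ Subgroup.lowerCentralSeries (⊤ : Subgroup X) n ⊔ h.K := by
      intro n
      induction n with
      | zero => simp [Subgroup.lowerCentralSeries_zero]
      | succ n ih =>
        conv_lhs => rw [← e]
        refine sup_le ?_ le_sup_right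
        rw [commutator_le]
        intro a ha b _
        obtain ⟨l, hl, k, hk, rfl⟩ := mem_sup_of_normal_right.mp (ih ha)
        have e2 : ⁅l * k, b⁆ = (l * ⁅k, b⁆ * l⁻¹) * ⁅l, b⁆ := by
          simp only [commutatorElement_def]; group
        rw [e2]
        refine mul_mem (mem_sup_right (Normal.conj_mem inferInstance _ ?_ l)) (mem_sup_left ?_)
        · rw [commutatorElement_def, show k * b * k⁻¹ * b⁻¹ = k * (b * k⁻¹ * b⁻¹) by group]
          exact mul_mem hk (Normal.conj_mem inferInstance _ (inv_mem hk) b)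
        · rw [Subgroup.lowerCentralSeries_succ]
          exact commutator_mem_commutator hl (mem_top b)
    obtain ⟨n, hn⟩ := Subgroup.nilpotent_iff_lowerCentralSeries.mp
      (inferInstance : Group.IsNilpotent X)
    have hNK : N ≤ h.K := by simpa [hn] using hall n
    exact htW (h.anis (hNK htN) ht2)
  haveI hMn : M.Normal := inferInstance
  have hManis : ∀ s ∈ M, s * s = 1 → s ∈ W := by
    intro s hs hs2
    by_contra hsW
    exact hmin M ⟨hMn, le_sup_right, hMN.trans hNC, s, hs, hs2, hsW⟩ hlt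
  refine htW (h.no_inv t ht2 fun x => ?_)
  have hcM : cm x t ∈ M := by
    refine mem_sup_left ?_
    rw [← cm_inv, inv_mem_iff]
    have := commutator_mem_commutator (H₂ := (⊤ : Subgroup X)) htN (mem_top x)
    simpa [commutatorElement_def, cm] using this
  refine h.mem_W_of_pow h16 le_sup_right (hMN.trans hNC) hManis hcM fun z hz hzK => ?_
  obtain ⟨i, rfl⟩ := mem_zpowers_iff.mp hz
  have e1 : t * cm x t * t⁻¹ = (cm x t)⁻¹ := by
    have ti : t⁻¹ = t := inv_eq_iff_mul_eq_one.mpr ht2
    simp only [cm, mul_inv_rev, inv_inv, mul_assoc, ti, ht2, mul_one]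
  have hcomm : cm x t ^ i * t = t * cm x t ^ i := mem_centralizer_iff.mp (hNC htN) _ hzK
  have e2 : (cm x t)⁻¹ ^ i = cm x t ^ i := by
    rw [← e1, conj_zpow, ← hcomm, mul_inv_cancel_right]
  refine h.anis hzK ?_
  nth_rw 1 [← e2]
  rw [inv_zpow, inv_mul_cancel]

/-- The product over the orbit of `φ` of the action of `x`. -/
theorem orbit_product (x : X) {k : X} (hk : k ∈ h.K) :
    cm x k * φ (cm x (φ (φ k))) * φ (φ (cm x (φ k))) = 1 := by
  have hcomm : ∀ a ∈ W, ∀ b : X, a * b = b * a := fun a ha b => (h.central a ha b).symm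
  have one : ∀ a : X, ∀ {l : X}, l ∈ h.K → cm a l ∈ W := fun a _ hl => hl.2 a
  have mulx : ∀ a b : X, ∀ {l : X}, l ∈ h.K → cm (a * b) l = cm a l * cm b l :=
    fun a b _ hl => cm_mul_left (h.central _ (one b hl))
  have modW : ∀ a : X, ∀ {l w : X}, l ∈ h.K → w ∈ W → cm a (l * w) = cm a l := fun a _ w hl hw => by
    rw [cm_mul_right (h.central _ (one a (h.W_le_K hw))), cm_eq_one_iff.mpr (h.central w hw a), mul_one]
  have same : ∀ a : X, ∀ {l m : X}, l ∈ h.K → m ∈ h.K → l * l = m * m → cm a l = cm a m :=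
    fun a l m hl hm e => by
      have := h.sqinj h16 hl hm e
      conv_lhs => rw [show l = m * (m⁻¹ * (l * m⁻¹) * m) by group]
      rw [h.central _ this m⁻¹, inv_mul_cancel_right]
      exact modW a hm this
  let T : Subgroup X :=
    { carrier := {x | ∀ k ∈ h.K, cm x k * φ (cm x (φ (φ k))) * φ (φ (cm x (φ k))) = 1}
      one_mem' := fun k _ => by simp [cm]
      mul_mem' := fun {a b} ha hb k hk => by
        have h1 := ha k hk
        have h2 := hb k hk
        rw [mulx a b hk, mulx a b (h.K_inv (h.K_inv hk)), mulx a b (h.K_inv hk), map_mul, map_mul,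
          map_mul]
        set p := cm a k
        set q := φ (cm a (φ (φ k)))
        set r := φ (φ (cm a (φ k)))
        set p' := cm b k
        set q' := φ (cm b (φ (φ k)))
        set r' := φ (φ (cm b (φ k)))
        have hp' : p' ∈ W := one b hk
        have hq' : q' ∈ W := h.inv _ (one b (h.K_inv (h.K_inv hk)))
        calc p * p' * (q * q') * (r * r') = p * q * r * (p' * q' * r') := by
              rw [mul_assoc p p', ← mul_assoc p' q q', hcomm p' hp' q]
              rw [show q * p' * q' = q * (p' * q') by group, ← mul_assoc p q,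
                mul_assoc (p * q) (p' * q'), ← mul_assoc (p' * q') r r',
                hcomm (p' * q') (mul_mem hp' hq') r]
              group
          _ = 1 := by rw [h1, h2, mul_one]
      inv_mem' := fun {a} ha k hk => by
        have e : ∀ {l : X}, l ∈ h.K → cm a⁻¹ l = cm a l := fun {l} hl => by
          have h0 : cm (a⁻¹ * a) l = 1 := by simp [cm]
          rw [mulx a⁻¹ a hl] at h0
          rw [eq_inv_of_mul_eq_one_left h0]
          exact inv_eq_iff_mul_eq_one.mpr (h.exp _ (one a hl))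
        rw [e hk, e (h.K_inv (h.K_inv hk)), e (h.K_inv hk)]
        exact ha k hk }
  suffices hgen : closure {g : X | ∃ ψ ∈ Ψ, ∃ x : X, g = x⁻¹ * ψ x} ≤ T from
    (hgen (by rw [h.gen]; exact mem_top x)) k hk
  rw [closure_le]
  rintro _ ⟨ψ, hψ, a, rfl⟩ k hk
  have einv : ∀ {l : X}, l ∈ h.K → cm a⁻¹ l = cm a l := fun {l} hl => by
    have h0 : cm (a⁻¹ * a) l = 1 := by simp [cm]
    rw [mulx a⁻¹ a hl] at h0
    rw [eq_inv_of_mul_eq_one_left h0]
    exact inv_eq_iff_mul_eq_one.mpr (h.exp _ (one a hl))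
  -- the value of `ψ a` is a permuted value of `a`
  let v : X → X → X := fun a k => cm a k * φ (cm a (φ (φ k))) * φ (φ (cm a (φ k)))
  have hv : v (ψ a) k = v a k := by
    have key : ∀ {j l : X}, j ∈ h.K → l ∈ h.K → ψ (j * j) = l * l → cm (ψ a) l = ψ (cm a j) :=
      fun {j l} hj hl e => by
        rw [cm_map ψ, same (ψ a) hl (h.K_psi hψ hj) (by rw [← map_mul, e])]
    have hk1 := h.K_inv hk
    have hk2 := h.K_inv hk1
    have s0 : k * k ∈ W := hk.1
    have c3 : ∀ {w : X}, w ∈ W → φ (φ (φ w)) = w := fun hw => h.cube hw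
    rcases h.tri ψ hψ with e | e | e
    · show cm (ψ a) k * _ * _ = _
      rw [key hk hk (e _ s0), key hk2 hk2 (e _ hk2.1), key hk1 hk1 (e _ hk1.1), e _ (one a hk),
        e _ (one a hk2), e _ (one a hk1)]
    · show cm (ψ a) k * _ * _ = _
      rw [key hk2 hk (by rw [e _ hk2.1]; simp only [← map_mul]; exact c3 s0),
        key hk1 hk2 (by rw [e _ hk1.1]; simp only [← map_mul]),
        key hk hk1 (by rw [e _ hk.1, map_mul]),
        e _ (one a hk2), e _ (one a hk1), e _ (one a hk), c3 (one a hk)]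
      set A := cm a k
      set B := φ (cm a (φ (φ k)))
      set C := φ (φ (cm a (φ k)))
      show B * C * A = A * B * C
      rw [mul_assoc A B C]
      exact (hcomm A (one a hk) (B * C)).symm
    · show cm (ψ a) k * _ * _ = _
      rw [key hk1 hk (by rw [e _ hk1.1]; simp only [← map_mul]; exact c3 s0),
        key hk hk2 (by rw [e _ hk.1, map_mul, map_mul]),
        key hk2 hk1 (by
          rw [e _ hk2.1]; simp only [← map_mul]
          rw [c3 (h.inv _ s0)]),
        e _ (one a hk2), e _ (one a hk1), e _ (one a hk), c3 (one a hk),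
        c3 (h.inv _ (one a hk2))]
      set A := cm a k
      set B := φ (cm a (φ (φ k)))
      set C := φ (φ (cm a (φ k)))
      show C * A * B = A * B * C
      rw [hcomm (A * B) (mul_mem (one a hk) (h.inv _ (one a hk2))) C, mul_assoc]
  show v (a⁻¹ * ψ a) k = 1
  show cm (a⁻¹ * ψ a) k * φ (cm (a⁻¹ * ψ a) (φ (φ k))) * φ (φ (cm (a⁻¹ * ψ a) (φ k))) = 1
  have hk1 := h.K_inv hk
  have hk2 := h.K_inv hk1
  rw [mulx _ _ hk, mulx _ _ hk2, mulx _ _ hk1, einv hk, einv hk2, einv hk1, map_mul, map_mul, map_mul]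
  set A := cm a k
  set B := φ (cm a (φ (φ k)))
  set C := φ (φ (cm a (φ k)))
  set A' := cm (ψ a) k
  set B' := φ (cm (ψ a) (φ (φ k)))
  set C' := φ (φ (cm (ψ a) (φ k)))
  have hA' : A' ∈ W := one _ hk
  have hB' : B' ∈ W := h.inv _ (one _ hk2)
  have hv' : A' * B' * C' = A * B * C := hv
  have hW3 : A * B * C ∈ W :=
    mul_mem (mul_mem (one a hk) (h.inv _ (one a hk2))) (h.inv _ (h.inv _ (one a hk1)))
  calc A * A' * (B * B') * (C * C') = A * B * C * (A' * B' * C') := by
        rw [mul_assoc A A', ← mul_assoc A' B B', hcomm A' hA' B]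
        rw [show B * A' * B' = B * (A' * B') by group, ← mul_assoc A B,
          mul_assoc (A * B) (A' * B'), ← mul_assoc (A' * B') C C',
          hcomm (A' * B') (mul_mem hA' hB') C]
        group
    _ = 1 := by rw [hv', h.exp _ hW3]

/-- Elements act on `K` injectively or trivially modulo `W`. -/
theorem cent_of_fix {x k : X} (hk : k ∈ h.K) (hkW : k ∉ W) (h1 : cm x k = 1) :
    x ∈ centralizer (h.K : Set X) := by
  have hk1 := h.K_inv hk
  have hk2 := h.K_inv hk1
  have one : ∀ {l : X}, l ∈ h.K → cm x l ∈ W := fun hl => hl.2 x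
  have mulr : ∀ {a b : X}, a ∈ h.K → b ∈ h.K → cm x (a * b) = cm x a * cm x b :=
    fun _ hb => cm_mul_right (h.central _ (one hb))
  have wr : ∀ {w : X}, w ∈ W → cm x w = 1 := fun hw => cm_eq_one_iff.mpr (h.central _ hw x)
  have h2 : cm x (φ (φ k)) = cm x (φ k) := by
    have hw : (k * φ k) * (φ (φ k))⁻¹ ∈ W := by
      refine h.sqinj h16 (mul_mem hk hk1) hk2 ?_
      rw [mul_assoc k, ← mul_assoc (φ k) k, h.K_comm_of_sixteen h16 _ hk1 _ hk, mul_assoc k (φ k),
        ← mul_assoc k k, ← map_mul φ k k, ← map_mul φ (φ k) (φ k), ← map_mul φ k k, h.sq_phi hk.1]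
    have := wr hw
    rw [mulr (mul_mem hk hk1) (inv_mem hk2), mulr hk hk1, h1, one_mul] at this
    have h0 : cm x (φ (φ k) * (φ (φ k))⁻¹) = 1 := by simp [cm]
    rw [mulr hk2 (inv_mem hk2)] at h0
    exact (mul_right_cancel (this.trans h0.symm)).symm
  have hT := h.orbit_product h16 x hk
  rw [h1, one_mul, h2] at hT
  have hb : cm x (φ k) ∈ W := one hk1
  have hz : cm x (φ k) = 1 := by
    have : φ (cm x (φ k) * φ (cm x (φ k))) = 1 := by rw [map_mul]; exact hT
    have h' : cm x (φ k) * φ (cm x (φ k)) = 1 := φ.injective (this.trans (map_one φ).symm)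
    refine h.fpf _ hb ?_
    rw [← inv_eq_of_mul_eq_one_right h', inv_eq_iff_mul_eq_one.mpr (h.exp _ hb)]
  refine mem_centralizer_iff.mpr fun l hl => ?_
  refine (cm_eq_one_iff.mp ?_).symm
  have hk0 : k * k ≠ 1 := fun e => hkW (h.anis hk e)
  have rel : ∀ {m : X}, m ∈ h.K → l * l = m * m → cm x m = 1 → cm x l = 1 := by
    intro m hm e hm0
    have hw := h.sqinj h16 hl hm e
    rw [show l = l * m⁻¹ * m by group, mulr (h.W_le_K hw) hm, hm0, wr hw, one_mul]
  rcases h.orbit hk.1 hk0 hl.1 with e | e | e | e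
  · exact wr (h.anis hl e)
  · exact rel hk e h1
  · exact rel hk1 (by rw [e, map_mul]) hz
  · exact rel hk2 (by rw [e, map_mul, map_mul]) (h2.trans hz)

/-- The layer of order sixteen is central. -/
theorem central_of_sixteen : centralizer (h.K : Set X) = ⊤ := by
  classical
  by_contra hne
  haveI := h.K_normal
  haveI : (centralizer (h.K : Set X)).Normal := normal_centralizer (H := h.K)
  set C := centralizer (h.K : Set X) with hC
  have out : ∀ x, x ∉ C → x * x ∈ W := by
    intro x hx
    refine h.mem_W_of_pow h16 (h.K_le_cent h16) le_rfl (fun t ht ht2 => h.cent_anis h16 ht ht2)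
      (h.sq_cent x) fun z hz hzK => ?_
    by_contra hzW
    refine hx (h.cent_of_fix h16 hzK hzW (cm_eq_one_iff.mpr ?_))
    obtain ⟨i, rfl⟩ := mem_zpowers_iff.mp hz
    exact (((Commute.refl x).mul_right (Commute.refl x)).zpow_right i).eq
  obtain ⟨x, hx⟩ : ∃ x, x ∉ C := by
    by_contra! hall
    exact hne (eq_top_iff.mpr fun x _ => hall x)
  have hx' : φ x ∉ C := by
    intro hxC
    refine hx (mem_centralizer_iff.mpr fun k hk => ?_)
    have := mem_centralizer_iff.mp hxC (φ k) (h.K_inv hk)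
    rwa [← map_mul, ← map_mul, φ.injective.eq_iff] at this
  have hxx : x * φ x ∉ C := by
    intro hc
    obtain ⟨k, hk, hkW⟩ := h.K_ne h16
    have eqv : ∀ {l : X}, l ∈ h.K → cm (φ x) l = cm x l := fun {l} hl => by
      have h0 : cm (x * φ x) l = 1 := cm_eq_one_iff.mpr (mem_centralizer_iff.mp hc l hl).symm
      rw [cm_mul_left (h.central _ (hl.2 (φ x)))] at h0
      rw [← inv_eq_of_mul_eq_one_right h0, inv_eq_iff_mul_eq_one.mpr (h.exp _ (hl.2 x))]
    have hT := h.orbit_product h16 x hk
    have hk1 := h.K_inv hk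
    have e1 : φ (cm x (φ (φ k))) = cm x (φ (φ (φ k))) := by
      rw [cm_map φ, eqv (h.K_inv (h.K_inv hk1))]
    have e2 : φ (φ (cm x (φ k))) = cm x (φ (φ (φ k))) := by
      rw [cm_map φ x, eqv (h.K_inv hk1), cm_map φ x, eqv (h.K_inv (h.K_inv hk1))]
    rw [e1, e2, mul_assoc, h.exp _ ((h.K_inv (h.K_inv hk1)).2 x), mul_one] at hT
    exact hx (h.cent_of_fix h16 hk hkW hT)
  have inv' : ∀ u, u ∉ C → ∀ y ∈ C, u * y * u⁻¹ * y ∈ W := by
    intro u hu y hy
    have huy : u * y ∉ C := fun e => hu (by simpa using mul_mem e (inv_mem hy))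
    have e : u * y * u⁻¹ * y = u * y * (u * y) * (u * u)⁻¹ := by
      have := h.central _ (inv_mem (out u hu))
      calc u * y * u⁻¹ * y = u * y * u * ((u * u)⁻¹ * y) := by group
        _ = u * y * u * (y * (u * u)⁻¹) := by rw [← this y]
        _ = u * y * (u * y) * (u * u)⁻¹ := by group
    rw [e]
    exact mul_mem (out _ huy) (inv_mem (out u hu))
  have allsq : ∀ y : X, y * y ∈ W := by
    intro y
    by_cases hy : y ∈ C
    swap
    · exact out y hy
    have a := inv' _ hx' y hy
    have b := inv' _ hx (φ x * y * (φ x)⁻¹) (Normal.conj_mem inferInstance y hy _)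
    have c := inv' _ hxx y hy
    set y' := φ x * y * (φ x)⁻¹
    set p := (x * φ x) * y * (x * φ x)⁻¹
    have hp : x * y' * x⁻¹ = p := by simp only [y', p]; group
    rw [hp] at b
    -- `p * y'` and `y' * y` and `p * y` lie in `W`
    have d : y⁻¹ * y' ∈ W := by
      rw [show y⁻¹ * y' = (p * y)⁻¹ * (p * y') by group]
      exact mul_mem (inv_mem c) b
    have e : y * y = y' * y * (y⁻¹ * (y⁻¹ * y')⁻¹ * y) := by group
    rw [e, h.central _ (inv_mem d) y⁻¹, inv_mul_cancel_right]
    exact mul_mem a (inv_mem d)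
  have htop := h.eq_top_of_squares allsq
  apply hne
  rw [eq_top_iff, ← htop]
  exact h.K_le_cent h16

end Sixteen

end Setup

end Cfsg.Agent.Components.SmallScn
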