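import Cfsg.Agent.Lib.Components.SmallScn.Structure
import Cfsg.Agent.Lib.CharP.Basic
import Cfsg.Agent.Lib.Coprime.PGroup

/-!
The case where some invariant abelian normal subgroup is moved.
-/

set_option autoImplicit false
set_option linter.all false

namespace Cfsg.Agent.Components.SmallScn

open Subgroup

universe u

variable {X : Type u} [Group X] [Finite X]

theorem odd_orderOf {A : Subgroup (MulAut X)} (hA : Odd (Nat.card A)) {φ : MulAut X} (hφ : φ ∈ A) :
    Odd (orderOf φ) := by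
  have h : orderOf (⟨φ, hφ⟩ : A) ∣ Nat.card A := orderOf_dvd_natCard _
  rw [← Subgroup.orderOf_coe] at h
  exact hA.of_dvd_nat h

/-- Normal elementary abelian subgroups have order at most four. -/
theorem card_elementary_le (hX : IsPGroup 2 X)
    (hscn : ¬ ∃ A : Subgroup X, A.Normal ∧ Subgroup.centralizer (A : Set X) = A ∧
      ∃ E : Subgroup X, E ≤ A ∧ Cfsg.IsElementaryAbelian 2 E ∧ Nat.card E = 8)
    (E : Subgroup X) [E.Normal] (hcomm : ∀ a ∈ E, ∀ b ∈ E, a * b = b * a)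
    (hexp : ∀ a ∈ E, a * a = 1) : Nat.card E ≤ 4 := by
  classical
  haveI : Fact (Nat.Prime 2) := ⟨Nat.prime_two⟩
  by_contra hlt
  obtain ⟨m, hm⟩ := (hX.to_subgroup E).exists_card_eq
  have hm3 : 3 ≤ m := by
    by_contra h
    exact hlt (by rw [hm]; exact Nat.pow_le_pow_right (by norm_num) (show m ≤ 2 by omega))
  obtain ⟨B, hEB, ⟨hBn, hBc⟩, hBmax⟩ := Set.Finite.exists_le_maximal
    (Set.toFinite {B : Subgroup X | B.Normal ∧ IsMulCommutative B}) (a := E)
    ⟨inferInstance, ⟨⟨fun a b => Subtype.ext (hcomm _ a.2 _ b.2)⟩⟩⟩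
  haveI := hBn
  haveI := hBc
  have hcent := Cfsg.Agent.PGroups.AbelianNormal.centralizer_eq_self hX B
    fun B' h1 h2 h3 => le_antisymm (hBmax ⟨h1, h2⟩ h3) h3
  obtain ⟨F, hF⟩ := Sylow.exists_subgroup_card_pow_prime (G := E) 2 (n := 3)
    (by rw [hm]; exact Nat.pow_dvd_pow 2 hm3)
  have hle : F.map E.subtype ≤ E := Subgroup.map_subtype_le F
  refine hscn ⟨B, hBn, hcent, F.map E.subtype, hle.trans hEB,
    ⟨⟨⟨fun a b => Subtype.ext (hcomm _ (hle a.2) _ (hle b.2))⟩⟩, fun a ha => ?_⟩, ?_⟩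
  · rw [pow_two]; exact hexp a (hle ha)
  · rw [Nat.card_congr (equivMapOfInjective F E.subtype Subtype.val_injective).toEquiv.symm, hF]
    norm_num

/-- An involution which is central modulo a central elementary abelian subgroup of order four
lies in it. -/
theorem mem_of_central_mod (hX : IsPGroup 2 X)
    (hscn : ¬ ∃ A : Subgroup X, A.Normal ∧ Subgroup.centralizer (A : Set X) = A ∧
      ∃ E : Subgroup X, E ≤ A ∧ Cfsg.IsElementaryAbelian 2 E ∧ Nat.card E = 8)
    {W : Subgroup X} (hW : ∀ w ∈ W, ∀ z : X, z * w = w * z) (hexp : ∀ w ∈ W, w * w = 1)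
    (hcard : 4 ≤ Nat.card W) {t : X} (ht : t * t = 1) (hcm : ∀ x, cm x t ∈ W) : t ∈ W := by
  by_contra htW
  haveI hn : W.Normal := ⟨fun w hw g => by rw [hW w hw g, mul_inv_cancel_right]; exact hw⟩
  haveI : (W ⊔ zpowers t).Normal := Cfsg.Agent.PGroups.AbelianNormal.normal_sup_zpowers hcm
  haveI : IsMulCommutative W := ⟨⟨fun a b => Subtype.ext (hW _ b.2 a)⟩⟩
  have hc := Cfsg.Agent.PGroups.AbelianNormal.le_centralizer_sup_zpowers (B := W) (x := t)
    (mem_centralizer_iff.mpr fun w hw => (hW w hw t).symm)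
  have hle := card_elementary_le hX hscn (W ⊔ zpowers t)
    (fun a ha b hb => mem_centralizer_iff.mp (hc hb) a ha) (fun a ha => by
      obtain ⟨w, hw, v, hv, rfl⟩ := mem_sup_of_normal_left.mp ha
      obtain ⟨i, rfl⟩ := mem_zpowers_iff.mp hv
      rw [mul_assoc, ← mul_assoc (t ^ i) w, hW w hw (t ^ i), mul_assoc w (t ^ i),
        ← (Commute.refl t).mul_zpow, ht, one_zpow, mul_one, hexp w hw])
  have hlt : W < W ⊔ zpowers t :=
    lt_of_le_of_ne le_sup_left fun e => htW (e ▸ mem_sup_right (mem_zpowers t))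
  have h1 : Nat.card W < Nat.card ↥(W ⊔ zpowers t) := by
    by_contra h
    exact hlt.ne (eq_of_le_of_card_ge hlt.le (not_lt.mp h))
  omega

/-- An odd order automorphism of a four-group fixing an involution is trivial. -/
theorem fix_all {W : Subgroup X} (hW : Nat.card W = 4) (hexp : ∀ w ∈ W, w * w = 1) {φ : MulAut X}
    (hφ : Odd (orderOf φ)) (hinv : ∀ w ∈ W, φ w ∈ W) {w : X} (hw : w ∈ W) (hw1 : w ≠ 1)
    (hfix : φ w = w) : ∀ v ∈ W, φ v = v := by
  intro v hv
  by_cases hv1 : v = 1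
  · simp [hv1]
  by_cases hwv : w = v
  · rw [← hwv, hfix]
  rcases mem_four hW hexp hw hv (hinv v hv) hw1 hv1 hwv with e | e | e | e
  · exact absurd (by simpa using e) hv1
  · exact absurd (φ.injective (e.trans hfix.symm)) (Ne.symm hwv)
  · exact e
  · refine odd_fix hφ ?_
    rw [e, map_mul, hfix, e, ← mul_assoc, hexp w hw, one_mul]

theorem special_of_setup {W : Subgroup X} {φ : MulAut X} {Ψ : Set (MulAut X)} (h : Setup W φ Ψ)
    (hna : ¬ ∀ a b : X, a * b = b * a) :
    Cfsg.IsSpecial 2 X ∧ Nat.card X = 64 ∧ Nat.card {x : X // orderOf x = 2} = 3 ∧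
      ∀ x : X, orderOf x = 2 → x ∈ Subgroup.center X := by
  classical
  haveI : Fact (Nat.Prime 2) := ⟨Nat.prime_two⟩
  obtain hab | ⟨h64, hK, ⟨x, y, hxy⟩, hZ⟩ := structure_of_setup _ h rfl
  · exact absurd hab hna
  have inK : ∀ z : X, z ∈ h.K := fun z => hK ▸ mem_top z
  have hinv : ∀ z : X, orderOf z = 2 ↔ z ∈ W ∧ z ≠ 1 := fun z => by
    constructor
    · intro hz
      refine ⟨h.anis (inK z) ?_, fun e => by rw [e, orderOf_one] at hz; omega⟩
      rw [← pow_two, ← hz, pow_orderOf_eq_one]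
    · rintro ⟨hz, hz1⟩
      exact orderOf_eq_prime (by rw [pow_two]; exact h.exp z hz) hz1
  haveI := h.two.isNilpotent
  have hc1 : commutator X ≤ W := by
    rw [_root_.commutator_def, commutator_le]
    exact fun a _ b _ => (inK b).2 a
  have hc2 : W ≤ commutator X := by
    refine h.cases_of_fixed hc1 ?_ (commutator_mem_commutator (mem_top x) (mem_top y))
      (fun e => hxy (commutatorElement_eq_one_iff_mul_comm.mp e))
    intro c hc
    have : commutator X ≤ (commutator X).comap (φ : X →* X) := by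
      rw [_root_.commutator_def, commutator_le]
      intro a _ b _
      rw [mem_comap, map_commutatorElement]
      exact commutator_mem_commutator (mem_top _) (mem_top _)
    exact this hc
  haveI hWn : W.Normal := ⟨fun w hw g => by rw [h.central w hw g, mul_inv_cancel_right]; exact hw⟩
  have hΦ : frattini X = W := by
    refine le_antisymm ?_ (hc2.trans (Cfsg.Agent.Coprime.commutator_le_frattini X))
    have := Cfsg.Agent.CharP.frattini_le_ker (p := 2) (QuotientGroup.mk' W) (fun a b => by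
      show QuotientGroup.mk' W a * QuotientGroup.mk' W b = QuotientGroup.mk' W b * QuotientGroup.mk' W a
      rw [← cm_eq_one_iff, ← cm_map (QuotientGroup.mk' W)]
      exact (QuotientGroup.eq_one_iff _).mpr ((inK b).2 a)) (fun a => by
      rw [pow_two, ← map_mul]
      exact (QuotientGroup.eq_one_iff _).mpr (inK a).1)
    rwa [QuotientGroup.ker_mk'] at this
  refine ⟨⟨h.two, hΦ.trans hZ.symm, (le_antisymm hc1 hc2).trans hZ.symm⟩, h64, ?_, fun z hz => ?_⟩
  · have hset : {z : X | orderOf z = 2} = (W : Set X) \ {1} := by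
      ext z
      simpa using hinv z
    show Nat.card ↥{z : X | orderOf z = 2} = 3
    rw [Nat.card_coe_set_eq, hset, Set.ncard_sdiff_singleton_of_mem (one_mem W),
      ← Nat.card_coe_set_eq, SetLike.coe_sort_coe, h.card]
  · rw [hZ]
    exact ((hinv z).mp hz).1

/-- A moved invariant abelian normal subgroup puts us in the transitive situation. -/
theorem exists_setup (hX : IsPGroup 2 X)
    (hscn : ¬ ∃ A : Subgroup X, A.Normal ∧ Subgroup.centralizer (A : Set X) = A ∧
      ∃ E : Subgroup X, E ≤ A ∧ Cfsg.IsElementaryAbelian 2 E ∧ Nat.card E = 8)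
    (A : Subgroup (MulAut X)) (hA : Odd (Nat.card A))
    (hXA : Subgroup.closure {g : X | ∃ φ ∈ A, ∃ x : X, g = x⁻¹ * φ x} = ⊤)
    (C : Subgroup X) [C.Normal] (hC : ∀ a ∈ C, ∀ b ∈ C, a * b = b * a)
    (hinv : ∀ ψ ∈ A, ∀ c ∈ C, ψ c ∈ C) {φ : MulAut X} (hφ : φ ∈ A) {c : X} (hc : c ∈ C)
    (hmove : φ c ≠ c) : ∃ W : Subgroup X, Setup W φ (A : Set (MulAut X)) := by
  classical
  haveI : Fact (Nat.Prime 2) := ⟨Nat.prime_two⟩
  let W : Subgroup X :=
    { carrier := {v | v ∈ C ∧ v * v = 1}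
      one_mem' := ⟨one_mem _, one_mul _⟩
      mul_mem' := fun {a b} ha hb => ⟨mul_mem ha.1 hb.1, by
        rw [mul_assoc, ← mul_assoc b a b, ← hC a ha.1 b hb.1, mul_assoc a b b, hb.2, mul_one, ha.2]⟩
      inv_mem' := fun {a} ha => ⟨inv_mem ha.1, by rw [← mul_inv_rev, ha.2, inv_one]⟩ }
  haveI hWn : W.Normal := ⟨fun v hv g => ⟨Normal.conj_mem inferInstance v hv.1 g, by
    rw [show g * v * g⁻¹ * (g * v * g⁻¹) = g * (v * v) * g⁻¹ by group, hv.2, mul_one, mul_inv_cancel]⟩⟩
  have hWinv : ∀ ψ ∈ A, ∀ w ∈ W, ψ w ∈ W := fun ψ hψ w hw =>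
    ⟨hinv ψ hψ w hw.1, by rw [← map_mul, hw.2, map_one]⟩
  have hWexp : ∀ w ∈ W, w * w = 1 := fun w hw => hw.2
  obtain ⟨w₀, hw₀, hmv⟩ : ∃ w ∈ W, φ w ≠ w := by
    by_contra! hall
    exact hmove (fix_of_fix_involutions hX (odd_orderOf hA hφ) hC (hinv φ hφ)
      (fun a ha h2 => hall a ⟨ha, h2⟩) c hc)
  have hw₀1 : w₀ ≠ 1 := fun e => hmv (by simp [e])
  have hcardW : Nat.card W = 4 := by
    have hle := card_elementary_le hX hscn W (fun a ha b hb => hC a ha.1 b hb.1) hWexp
    obtain ⟨m, hm⟩ := (hX.to_subgroup W).exists_card_eq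
    have h3 : 3 ≤ Nat.card W := by
      haveI := Fintype.ofFinite W
      let l : List W := [1, ⟨w₀, hw₀⟩, ⟨φ w₀, hWinv φ hφ _ hw₀⟩]
      have hnd : l.Nodup := by
        simp only [l, List.nodup_cons, List.mem_cons, List.not_mem_nil, or_false, not_or,
          List.nodup_nil, and_true, not_false_eq_true, ← Subtype.coe_inj, coe_one]
        exact ⟨⟨hw₀1.symm, fun e => hw₀1 (by simpa using e.symm)⟩, fun e => hmv e.symm⟩
      have := hnd.length_le_card
      rw [← Nat.card_eq_fintype_card] at this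
      simpa [l] using this
    rw [hm] at hle h3 ⊢
    have : m ≤ 2 := (Nat.pow_le_pow_iff_right (le_refl 2)).mp hle
    interval_cases m <;> omega
  have hfpf : ∀ w ∈ W, φ w = w → w = 1 := by
    intro w hw e
    by_contra hw1
    exact hmv (fix_all hcardW hWexp (odd_orderOf hA hφ) (hWinv φ hφ) hw hw1 e w₀ hw₀)
  have hWcen : ∀ w ∈ W, ∀ z : X, z * w = w * z := by
    haveI := hX.isNilpotent
    have hne : W ≠ ⊥ := fun e => hw₀1 (mem_bot.mp (e ▸ hw₀))
    obtain ⟨⟨a, ha⟩, ha1⟩ := ne_bot_iff_exists_ne_one.mp (Cfsg.Agent.Cores.inf_center_ne_bot hne)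
    have ha1' : a ≠ 1 := fun e => ha1 (Subtype.ext e)
    obtain ⟨haW, haC⟩ := mem_inf.mp ha
    have hbC : φ a ∈ center X := mem_center_iff.mpr fun g => by
      rw [← φ.apply_symm_apply g, ← map_mul, ← map_mul, mem_center_iff.mp haC]
    have hab : a ≠ φ a := fun e => ha1' (hfpf a haW e.symm)
    intro w hw z
    have hwC : w ∈ center X := by
      rcases mem_four hcardW hWexp haW (hWinv φ hφ a haW) hw ha1' (by simpa using ha1') hab with
        rfl | rfl | rfl | rfl
      exacts [one_mem _, haC, hbC, mul_mem haC hbC]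
    exact mem_center_iff.mp hwC z
  have h0 : ∀ w ∈ W, φ w ∈ W := hWinv φ hφ
  have sq : φ (φ w₀) = w₀ * φ w₀ := by
    rcases mem_four hcardW hWexp hw₀ (h0 _ hw₀) (h0 _ (h0 _ hw₀)) hw₀1 (by simpa using hw₀1)
      (Ne.symm hmv) with e | e | e | e
    · exact absurd (by simpa using e) hw₀1
    · exact absurd (odd_fix (odd_orderOf hA hφ) e) hmv
    · exact absurd (φ.injective e) hmv
    · exact e
  refine ⟨W, hX, hcardW, hWexp, hWcen, h0, hfpf,
    fun t ht hcm => mem_of_central_mod hX hscn hWcen hWexp hcardW.ge ht hcm, fun ψ hψ => ?_, hXA⟩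
  have fixing : ∀ χ ∈ A, χ w₀ = w₀ → ∀ w ∈ W, χ w = w := fun χ hχ e =>
    fix_all hcardW hWexp (odd_orderOf hA hχ) (hWinv χ hχ) hw₀ hw₀1 e
  rcases mem_four hcardW hWexp hw₀ (h0 _ hw₀) (hWinv ψ hψ _ hw₀) hw₀1 (by simpa using hw₀1)
    (Ne.symm hmv) with e | e | e | e
  · exact absurd (by simpa using e) hw₀1
  · exact Or.inl (fixing ψ hψ e)
  · refine Or.inr (Or.inl fun w hw => ?_)
    have := fixing (φ⁻¹ * ψ) (mul_mem (inv_mem hφ) hψ)
      (by simp [MulAut.mul_apply, e]) w hw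
    rw [MulAut.mul_apply] at this
    calc ψ w = φ (φ⁻¹ (ψ w)) := (φ.apply_symm_apply _).symm
      _ = φ w := by rw [this]
  · refine Or.inr (Or.inr fun w hw => ?_)
    rw [← sq] at e
    have := fixing (φ⁻¹ * φ⁻¹ * ψ) (mul_mem (mul_mem (inv_mem hφ) (inv_mem hφ)) hψ)
      (by simp [MulAut.mul_apply, e]) w hw
    simp only [MulAut.mul_apply] at this
    calc ψ w = φ (φ (φ⁻¹ (φ⁻¹ (ψ w)))) := by simp
      _ = φ (φ w) := by rw [this]

end Cfsg.Agent.Components.SmallScn
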