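import Cfsg.Agent.Lib.Components.SmallScn.Layer

/-!
Groups with a transitively permuted central four-group and no further involution central modulo it:
abelian, or of order `64` and exponent dividing `4`.
-/

set_option autoImplicit false
set_option linter.all false

namespace Cfsg.Agent.Components.SmallScn

open Subgroup

universe u

theorem map_eq_self {X : Type*} [Group X] [Finite X] {W : Subgroup X} {ψ : MulAut X}
    (h : ∀ w ∈ W, ψ w ∈ W) : W.map (ψ : X →* X) = W := by
  refine eq_of_le_of_card_ge ?_ ?_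
  · rintro _ ⟨w, hw, rfl⟩
    exact h w hw
  · rw [Nat.card_congr (Subgroup.equivMapOfInjective W (ψ : X →* X) ψ.injective).toEquiv.symm]

theorem structure_of_setup : ∀ n : ℕ, ∀ {X : Type u} [Group X] [Finite X] {W : Subgroup X}
    {φ : MulAut X} {Ψ : Set (MulAut X)} (h : Setup W φ Ψ), Nat.card X = n →
    (∀ a b : X, a * b = b * a) ∨
      (Nat.card X = 64 ∧ h.K = ⊤ ∧ (∃ x y : X, x * y ≠ y * x) ∧ center X = W) := by
  intro n
  induction n using Nat.strong_induction_on with
  | _ n ih =>
  intro X _ _ W φ Ψ h hn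
  classical
  rcases h.K_card with h4 | h16 | h64
  · left
    have hWK : W = h.K := eq_of_le_of_card_ge h.W_le_K (by rw [h4, h.card])
    have htop : W = ⊤ := by
      by_contra hne
      obtain ⟨x, -, hx, hxW⟩ := h.step (N := ⊤) (lt_top_iff_ne_top.mpr hne)
      exact hxW (hWK ▸ hx)
    exact fun a b => h.central b (htop ▸ mem_top b) a
  swap
  · exact Or.inr (h.of_sixty_four h64)
  left
  have hcent := h.central_of_sixteen h16
  have kc : ∀ k ∈ h.K, ∀ x : X, x * k = k * x := fun k hk x =>
    (mem_centralizer_iff.mp (show x ∈ centralizer (h.K : Set X) by rw [hcent]; exact mem_top x) k hk).symm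
  have anis : ∀ x : X, x * x = 1 → x ∈ W := fun x hx =>
    h.cent_anis h16 (by rw [hcent]; exact mem_top x) hx
  have inK : ∀ x : X, x * x ∈ W → x ∈ h.K := by
    intro x hx
    obtain ⟨k, hk, e⟩ := h.surj h16 hx
    have : x * k⁻¹ ∈ W := anis _ (by
      rw [mul_assoc, ← mul_assoc k⁻¹ x, ← (show Commute x k⁻¹ from
        ((show Commute x k from kc k hk x)).inv_right).eq, mul_assoc x k⁻¹ k⁻¹, ← mul_assoc x x, ← e]
      group)
    rw [show x = x * k⁻¹ * k by group]
    exact mul_mem (h.W_le_K this) hk
  haveI hWn : W.Normal := ⟨fun w hw g => by rw [h.central w hw g, mul_inv_cancel_right]; exact hw⟩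
  let mk : X →* X ⧸ W := QuotientGroup.mk' W
  have mem_one : ∀ x : X, mk x = 1 ↔ x ∈ W := fun x => QuotientGroup.eq_one_iff x
  have mk_eq : ∀ x y : X, x * y⁻¹ ∈ W → mk x = mk y := fun x y hxy => by
    rw [← mem_one, map_mul, map_inv, mul_inv_eq_one] at hxy
    exact hxy
  let φQ : MulAut (X ⧸ W) := QuotientGroup.congr W W φ (map_eq_self h.inv)
  let ΨQ : Set (MulAut (X ⧸ W)) :=
    {a | ∃ ψ, ∃ hψ : ψ ∈ Ψ, a = QuotientGroup.congr W W ψ (map_eq_self fun w hw => h.psi_mem hψ hw)}
  have hφQ : ∀ x : X, φQ (mk x) = mk (φ x) := fun x => rfl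
  set W' := h.K.map mk with hW'
  have cardW' : Nat.card W' = 4 := by
    have h1 := relIndex_ker mk (K := h.K)
    rw [QuotientGroup.ker_mk', Subgroup.relIndex] at h1
    have h2 := card_mul_index (W.subgroupOf h.K)
    rw [Nat.card_congr (subgroupOfEquivOfLe h.W_le_K).toEquiv, h1, h16, h.card] at h2
    rw [hW']; omega
  have hQ : Setup W' φQ ΨQ :=
    { two := h.two.to_quotient W
      card := cardW'
      exp := by
        rintro _ ⟨k, hk, rfl⟩
        rw [← map_mul, mem_one]
        exact hk.1
      central := by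
        rintro _ ⟨k, hk, rfl⟩ z
        obtain ⟨x, rfl⟩ := QuotientGroup.mk'_surjective W z
        show mk x * mk k = mk k * mk x
        rw [← map_mul, ← map_mul, kc k hk x]
      inv := by
        rintro _ ⟨k, hk, rfl⟩
        exact ⟨φ k, h.K_inv hk, (hφQ k).symm⟩
      fpf := by
        rintro _ ⟨k, hk, rfl⟩ e
        rw [hφQ] at e
        rw [mem_one]
        refine h.anis hk (h.fpf _ hk.1 ?_)
        have hw : φ k * k⁻¹ ∈ W := by rw [← mem_one, map_mul, map_inv, e, mul_inv_cancel]
        have hc := h.central _ hw k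
        calc φ (k * k) = φ k * φ k := map_mul φ k k
          _ = φ k * k⁻¹ * k * (φ k * k⁻¹ * k) := by group
          _ = φ k * k⁻¹ * (φ k * k⁻¹) * (k * k) := by
              rw [mul_assoc (φ k * k⁻¹) k, ← mul_assoc k (φ k * k⁻¹) k, hc]
              simp only [mul_assoc]
          _ = k * k := by rw [h.exp _ hw, one_mul]
      no_inv := by
        intro t ht _
        obtain ⟨x, rfl⟩ := QuotientGroup.mk'_surjective W t
        exact ⟨x, inK x ((mem_one _).mp (by rw [map_mul]; exact ht)), rfl⟩
      tri := by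
        rintro _ ⟨ψ, hψ, rfl⟩
        rcases h.tri ψ hψ with e | e | e
        · left
          rintro _ ⟨k, hk, rfl⟩
          show mk (ψ k) = mk k
          exact mk_eq _ _ (h.sqinj h16 (h.K_psi hψ hk) hk (by rw [← map_mul, e _ hk.1]))
        · right; left
          rintro _ ⟨k, hk, rfl⟩
          show mk (ψ k) = mk (φ k)
          exact mk_eq _ _ (h.sqinj h16 (h.K_psi hψ hk) (h.K_inv hk) (by
            rw [← map_mul, e _ hk.1, map_mul]))
        · right; right
          rintro _ ⟨k, hk, rfl⟩
          show mk (ψ k) = mk (φ (φ k))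
          exact mk_eq _ _ (h.sqinj h16 (h.K_psi hψ hk) (h.K_inv (h.K_inv hk)) (by
            rw [← map_mul, e _ hk.1, map_mul, map_mul]))
      gen := by
        have := congrArg (Subgroup.map mk) h.gen
        rw [MonoidHom.map_closure, Subgroup.map_top_of_surjective mk (QuotientGroup.mk'_surjective W)] at this
        refine eq_top_iff.mpr (this.ge.trans (closure_mono ?_))
        rintro _ ⟨_, ⟨ψ, hψ, x, rfl⟩, rfl⟩
        exact ⟨_, ⟨ψ, hψ, rfl⟩, mk x, by rw [map_mul, map_inv]; rfl⟩ }
  have hlt : Nat.card (X ⧸ W) < n := by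
    have h2 := W.card_eq_card_quotient_mul_card_subgroup
    rw [hn, h.card] at h2
    have : 0 < Nat.card (X ⧸ W) := Nat.card_pos
    omega
  have hcmW : ∀ x y : X, cm x y ∈ W := by
    intro x y
    rcases ih _ hlt hQ rfl with hab | ⟨-, hK, -, -⟩
    · rw [← mem_one, cm_map mk, cm_eq_one_iff]
      exact hab _ _
    · have sqK : ∀ z : X, z * z ∈ h.K := by
        intro z
        obtain ⟨k, hk, e⟩ := (show mk z ∈ hQ.K by rw [hK]; exact mem_top _).1
        have hw : z * z * k⁻¹ ∈ W := by
          rw [← mem_one, map_mul, map_inv, e, map_mul, mul_inv_cancel]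
        rw [show z * z = z * z * k⁻¹ * k by group]
        exact mul_mem (h.W_le_K hw) hk
      have hcK : cm x y ∈ h.K := cm_mem_of_sq kc sqK x y
      refine anis _ ?_
      rw [← cm_mul_left (kc _ hcK)]
      exact cm_eq_one_iff.mpr (kc _ (sqK x) y).symm
  have sqc : ∀ x z : X, z * (x * x) = x * x * z := by
    intro x z
    refine (cm_eq_one_iff.mp ?_).symm
    rw [cm_mul_left (h.central _ (hcmW x z))]
    exact h.exp _ (hcmW x z)
  let s : X →* X ⧸ W :=
    { toFun := fun x => mk (x * x)
      map_one' := by rw [one_mul, map_one]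
      map_mul' := fun a b => by
        have hc : mk a * mk b = mk b * mk a := by
          rw [← cm_eq_one_iff, ← cm_map mk, mem_one]
          exact hcmW a b
        simp only [map_mul]
        rw [mul_assoc (mk a) (mk b), ← mul_assoc (mk b) (mk a), ← hc]
        group }
  have hker : s.ker = h.K := le_antisymm
    (fun x hx => inK x ((mem_one _).mp (MonoidHom.mem_ker.mp hx)))
    (fun x hx => MonoidHom.mem_ker.mpr ((mem_one _).mpr hx.1))
  set Z := s.range.comap mk with hZdef
  have hZc : ∀ z ∈ Z, ∀ y ∈ (⊤ : Subgroup X), y * z = z * y := by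
    intro z hz y _
    obtain ⟨x, hx⟩ := mem_comap.mp hz
    have hw : z * (x * x)⁻¹ ∈ W := by
      rw [← mem_one, map_mul, map_inv, ← hx]
      exact mul_inv_cancel _
    rw [show z = z * (x * x)⁻¹ * (x * x) by group, ← mul_assoc, h.central _ hw y, mul_assoc,
      sqc x y, ← mul_assoc]
  have hcardZ : Nat.card Z = 4 * Nat.card s.range := by
    have hWZ : W ≤ Z := fun w hw => mem_comap.mpr (by rw [(mem_one w).mpr hw]; exact one_mem _)
    have h1 := relIndex_ker mk (K := Z)
    rw [QuotientGroup.ker_mk', Subgroup.relIndex,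
      map_comap_eq_self_of_surjective (QuotientGroup.mk'_surjective W)] at h1
    have h2 := card_mul_index (W.subgroupOf Z)
    rw [Nat.card_congr (subgroupOfEquivOfLe hWZ).toEquiv, h1, h.card] at h2
    exact h2.symm
  have hcard : Nat.card (⊤ : Subgroup X) ≤ 4 * Nat.card Z := by
    have h1 := s.ker.card_eq_card_quotient_mul_card_subgroup
    rw [Nat.card_congr (QuotientGroup.quotientKerEquivRange s).toEquiv, hker, h16] at h1
    rw [card_top, hcardZ, h1]
    omega
  intro a b
  by_contra hne
  have hab : cm a b ≠ 1 := fun e => hne (cm_eq_one_iff.mp e)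
  rcases comm_of_small le_top hZc h.central h.exp (fun a _ b _ => hcmW a b) hcard (mem_top a)
      (mem_top b) hab _ (mem_top (φ a)) _ (mem_top (φ b)) with e | e <;> rw [← cm_map φ] at e
  · exact hab (by simpa using e)
  · exact hab (h.fpf _ (hcmW a b) e)

end Cfsg.Agent.Components.SmallScn
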