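import Cfsg.Agent.Lib.Components.SmallScn.Basic

/-!
A `2`-group with a central four-group whose involutions are moved transitively by automorphisms:
its squares-and-commutators layer over the four-group.
-/

set_option autoImplicit false
set_option linter.all false

namespace Cfsg.Agent.Components.SmallScn

open Subgroup

universe u

variable {X : Type u} [Group X]

/-- `W` is a central four-group, `φ` fixes no involution of it, no involution outside is central
modulo it and the group is generated by commutators with automorphisms acting on it like powers of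
`φ`. -/
structure Setup (W : Subgroup X) (φ : MulAut X) (Ψ : Set (MulAut X)) : Prop where
  two : IsPGroup 2 X
  card : Nat.card W = 4
  exp : ∀ w ∈ W, w * w = 1
  central : ∀ w ∈ W, ∀ z : X, z * w = w * z
  inv : ∀ w ∈ W, φ w ∈ W
  fpf : ∀ w ∈ W, φ w = w → w = 1
  no_inv : ∀ t : X, t * t = 1 → (∀ x : X, cm x t ∈ W) → t ∈ W
  tri : ∀ ψ ∈ Ψ, (∀ w ∈ W, ψ w = w) ∨ (∀ w ∈ W, ψ w = φ w) ∨ (∀ w ∈ W, ψ w = φ (φ w))
  gen : closure {g : X | ∃ ψ ∈ Ψ, ∃ x : X, g = x⁻¹ * ψ x} = ⊤

variable {W : Subgroup X} {φ : MulAut X} {Ψ : Set (MulAut X)}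

namespace Setup

section

variable [Finite X] (h : Setup W φ Ψ)
include h

theorem map_ne_one {a : MulAut X} {w : X} (hw : w ≠ 1) : a w ≠ 1 := fun e => hw (by simpa using e)

theorem sq_phi {w : X} (hw : w ∈ W) : φ (φ w) = w * φ w := by
  by_cases h1 : w = 1
  · simp [h1]
  have hne : w ≠ φ w := fun e => h1 (h.fpf w hw e.symm)
  rcases mem_four h.card h.exp hw (h.inv _ hw) (h.inv _ (h.inv _ hw)) h1 (map_ne_one h h1) hne with
    e | e | e | e
  · exact absurd e (map_ne_one h (map_ne_one h h1))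
  · exfalso
    have hfix : φ (w * φ w) = w * φ w := by rw [map_mul, e]; exact h.central _ hw _
    exact hne (by
      rw [← inv_eq_of_mul_eq_one_right (h.fpf _ (mul_mem hw (h.inv _ hw)) hfix),
        inv_eq_iff_mul_eq_one.mpr (h.exp w hw)])
  · exact absurd (φ.injective e) (Ne.symm hne)
  · exact e

theorem cube {w : X} (hw : w ∈ W) : φ (φ (φ w)) = w := by
  rw [h.sq_phi hw, map_mul, h.sq_phi hw, ← mul_assoc, h.central _ hw (φ w), mul_assoc,
    h.exp _ (h.inv _ hw), mul_one]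

theorem prod_three {w : X} (hw : w ∈ W) : w * φ w * φ (φ w) = 1 := by
  rw [h.sq_phi hw, h.exp _ (mul_mem hw (h.inv _ hw))]

theorem orbit {e w : X} (he : e ∈ W) (he1 : e ≠ 1) (hw : w ∈ W) :
    w = 1 ∨ w = e ∨ w = φ e ∨ w = φ (φ e) := by
  rw [h.sq_phi he]
  exact mem_four h.card h.exp he (h.inv _ he) hw he1 (map_ne_one h he1)
    (fun x => he1 (h.fpf e he x.symm))

theorem exists_ne : ∃ e ∈ W, e ≠ 1 := by
  by_contra! hc
  have := h.card
  rw [show W = ⊥ from eq_bot_iff.mpr fun w hw => mem_bot.mpr (hc w hw), card_bot] at this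
  omega

theorem cases_of_fixed {C : Subgroup X} (hC : C ≤ W) (hCi : ∀ c ∈ C, φ c ∈ C) {c : X} (hc : c ∈ C)
    (hc1 : c ≠ 1) : W ≤ C := by
  intro w hw
  rcases h.orbit (hC hc) hc1 hw with rfl | rfl | rfl | rfl
  · exact one_mem _
  · exact hc
  · exact hCi _ hc
  · exact hCi _ (hCi _ hc)

theorem psi_mem {ψ : MulAut X} (hψ : ψ ∈ Ψ) {w : X} (hw : w ∈ W) : ψ w ∈ W := by
  rcases h.tri ψ hψ with e | e | e <;> rw [e w hw]
  · exact hw
  · exact h.inv _ hw
  · exact h.inv _ (h.inv _ hw)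

theorem psi_pre {ψ : MulAut X} (hψ : ψ ∈ Ψ) {w : X} (hw : w ∈ W) : ∃ v ∈ W, ψ v = w := by
  rcases h.tri ψ hψ with e | e | e
  · exact ⟨w, hw, e w hw⟩
  · exact ⟨_, h.inv _ (h.inv _ hw), by rw [e _ (h.inv _ (h.inv _ hw)), h.cube hw]⟩
  · exact ⟨_, h.inv _ hw, by rw [e _ (h.inv _ hw), h.cube hw]⟩

end

/-- The elements squaring into `W` and central modulo `W`. -/
def K (h : Setup W φ Ψ) : Subgroup X where
  carrier := {x | x * x ∈ W ∧ ∀ y : X, cm y x ∈ W}
  one_mem' := ⟨by simpa using one_mem W, fun y => by simpa [cm] using one_mem W⟩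
  mul_mem' := fun {a b} ha hb => ⟨by
    have e : a * b * (a * b) = cm b a * (a * a) * (b * b) := by
      have hc := h.central _ (ha.2 b)
      calc a * b * (a * b) = a * (cm b a * (a * b)) * b := by simp only [cm]; group
        _ = cm b a * (a * (a * b) * b) := by rw [← mul_assoc a (cm b a), hc a]; group
        _ = cm b a * (a * a) * (b * b) := by group
    rw [e]
    exact mul_mem (mul_mem (ha.2 b) ha.1) hb.1, fun y => by
    rw [cm_mul_right (h.central _ (hb.2 y))]
    exact mul_mem (ha.2 y) (hb.2 y)⟩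
  inv_mem' := fun {a} ha => ⟨by
    rw [show a⁻¹ * a⁻¹ = (a * a)⁻¹ by group]
    exact inv_mem ha.1, fun y => by
    have hc := h.central _ (inv_mem (ha.2 y)) a⁻¹
    rw [show cm y a⁻¹ = a⁻¹ * (cm y a)⁻¹ * a by simp only [cm]; group, hc, inv_mul_cancel_right]
    exact inv_mem (ha.2 y)⟩

section

variable [Finite X] (h : Setup W φ Ψ)
include h

theorem W_le_K : W ≤ h.K := fun w hw => ⟨by rw [h.exp w hw]; exact one_mem W,
  fun y => by rw [cm_eq_one_iff.mpr (h.central w hw y)]; exact one_mem W⟩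

theorem K_normal : h.K.Normal := ⟨fun x hx g => by
  have e : g * x * g⁻¹ = cm g x * x := by simp only [cm]; group
  rw [e]
  exact mul_mem (h.W_le_K (hx.2 g)) hx⟩

theorem K_inv {x : X} (hx : x ∈ h.K) : φ x ∈ h.K := ⟨by rw [← map_mul]; exact h.inv _ hx.1,
  fun y => by
    rw [← φ.apply_symm_apply y, ← cm_map φ]
    exact h.inv _ (hx.2 _)⟩

theorem K_psi {ψ : MulAut X} (hψ : ψ ∈ Ψ) {x : X} (hx : x ∈ h.K) : ψ x ∈ h.K := by
  refine ⟨by rw [← map_mul]; exact h.psi_mem hψ hx.1, fun y => ?_⟩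
  rw [← ψ.apply_symm_apply y, ← cm_map ψ]
  exact h.psi_mem hψ (hx.2 _)

theorem anis {k : X} (hk : k ∈ h.K) (h2 : k * k = 1) : k ∈ W := h.no_inv k h2 hk.2

theorem step {N : Subgroup X} [N.Normal] (hWN : W < N) : ∃ x ∈ N, x ∈ h.K ∧ x ∉ W := by
  haveI : Fact (Nat.Prime 2) := ⟨Nat.prime_two⟩
  haveI : W.Normal := ⟨fun w hw g => by rw [h.central w hw g, mul_inv_cancel_right]; exact hw⟩
  obtain ⟨x, hxN, hxW, hx2, hxg⟩ := Cfsg.Agent.PGroups.AbelianNormal.exists_step h.two hWN
  exact ⟨x, hxN, ⟨by rwa [pow_two] at hx2, hxg⟩, hxW⟩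

theorem eq_top_of_squares (hsq : ∀ x : X, x * x ∈ W) : h.K = ⊤ :=
  eq_top_iff.mpr fun x _ => ⟨hsq x, fun y => cm_mem_of_sq h.central hsq y x⟩

theorem sq_surj {U : Subgroup X} (hU : ∀ x ∈ U, φ x ∈ U) {k : X} (hk : k ∈ U) (hkW : k * k ∈ W)
    (hk1 : k * k ≠ 1) {w : X} (hw : w ∈ W) : ∃ z ∈ U, z * z = w := by
  rcases h.orbit hkW hk1 hw with rfl | rfl | rfl | rfl
  · exact ⟨1, one_mem _, one_mul _⟩
  · exact ⟨k, hk, rfl⟩
  · exact ⟨φ k, hU _ hk, by rw [map_mul]⟩
  · exact ⟨φ (φ k), hU _ (hU _ hk), by rw [map_mul, map_mul]⟩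

theorem K_card : Nat.card h.K = 4 ∨ Nat.card h.K = 16 ∨ Nat.card h.K = 64 := by
  classical
  haveI := Fintype.ofFinite X
  obtain ⟨e, he, he1⟩ := h.exists_ne
  have hD : ∀ s ∈ h.K, s * s = 1 ↔ s ∈ W := fun s hs => ⟨h.anis hs, h.exp s⟩
  have hle : Nat.card h.K ≤ 64 := by
    have := card_le_of_sq h.two le_rfl h.W_le_K h.central h.exp
      (fun d hd s _ => h.central d hd s) (fun s hs => hs.1) (fun a _ b hb => hb.2 a) hD
      (n := 2) h.card
    rwa [h.card, show (4 : ℕ) * 2 ^ (2 * 2) = 64 from rfl] at this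
  let T : X → Finset X := fun w => Finset.univ.filter fun k => k ∈ h.K ∧ k * k = w
  have hT : ∀ w ∈ W, (T (φ w)).card = (T w).card := by
    have hmap : ∀ v, Set.MapsTo φ (T v : Set X) (T (φ v) : Set X) := fun v k hk => by
      simp only [T, Finset.coe_filter, Finset.mem_univ, true_and, Set.mem_setOf_eq] at hk ⊢
      exact ⟨h.K_inv hk.1, by rw [← map_mul, hk.2]⟩
    have hm : ∀ v, (T v).card ≤ (T (φ v)).card := fun v =>
      Finset.card_le_card_of_injOn φ (hmap v) φ.injective.injOn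
    intro w hw
    refine le_antisymm ?_ (hm w)
    have := (hm (φ w)).trans (hm (φ (φ w)))
    rwa [h.cube hw] at this
  have h1 : (T 1).card = 4 := by
    rw [← h.card, Nat.card_eq_fintype_card, Fintype.card_subtype]
    congr 1
    ext k
    simp only [T, Finset.mem_filter, Finset.mem_univ, true_and]
    exact ⟨fun hk => (hD k hk.1).mp hk.2, fun hk => ⟨h.W_le_K hk, h.exp k hk⟩⟩
  have hsum : Nat.card h.K = ∑ w ∈ Finset.univ.filter (· ∈ W), (T w).card := by
    rw [Nat.card_eq_fintype_card, Fintype.card_subtype,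
      Finset.card_eq_sum_card_fiberwise (f := fun k : X => k * k) (t := Finset.univ.filter (· ∈ W))
        (fun k hk => by
          simp only [Finset.coe_filter, Finset.mem_univ, true_and, Set.mem_setOf_eq] at hk ⊢
          exact hk.1)]
    refine Finset.sum_congr rfl fun w _ => ?_
    rw [Finset.filter_filter]
  have hset : Finset.univ.filter (· ∈ W) = {1, e, φ e, φ (φ e)} := by
    ext w
    simp only [Finset.mem_filter, Finset.mem_univ, true_and, Finset.mem_insert, Finset.mem_singleton]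
    refine ⟨h.orbit he he1, ?_⟩
    rintro (rfl | rfl | rfl | rfl)
    exacts [one_mem _, he, h.inv _ he, h.inv _ (h.inv _ he)]
  have n1 : e ≠ φ e := fun x => he1 (h.fpf e he x.symm)
  have n2 : φ e ≠ φ (φ e) := fun x => n1 (φ.injective x)
  have n3 : e ≠ φ (φ e) := fun x => n1 (by
    have := congrArg φ x
    rw [h.cube he] at this
    exact this.symm)
  rw [hset, Finset.sum_insert (by simp [Ne.symm he1, Ne.symm (map_ne_one h he1),
      Ne.symm (map_ne_one h (map_ne_one h he1))]), Finset.sum_insert (by simp [n1, n3]),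
    Finset.sum_insert (by simp [n2]), Finset.sum_singleton, hT _ (h.inv _ he), hT _ he, h1] at hsum
  haveI : Fact (Nat.Prime 2) := ⟨Nat.prime_two⟩
  obtain ⟨m, hm⟩ := (h.two.to_subgroup h.K).exists_card_eq
  have hm6 : m ≤ 6 := (Nat.pow_le_pow_iff_right (le_refl 2)).mp (by rw [← hm]; exact hle)
  rw [hm] at hsum ⊢
  interval_cases m <;> omega

theorem K_comm_of_sixteen (h16 : Nat.card h.K = 16) : ∀ a ∈ h.K, ∀ b ∈ h.K, a * b = b * a := by
  intro a ha b hb
  by_contra hne
  have hab : cm a b ≠ 1 := fun x => hne (cm_eq_one_iff.mp x)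
  have hall := comm_of_small h.W_le_K (fun z hz s _ => h.central z hz s) h.central h.exp
    (fun a _ b hb => hb.2 a) (by rw [h16, h.card]) ha hb hab
  rcases hall _ (h.K_inv ha) _ (h.K_inv hb) with x | x <;> rw [← cm_map φ] at x
  · exact hab (by simpa using x)
  · exact hab (h.fpf _ (hb.2 a) x)

end

end Setup

end Cfsg.Agent.Components.SmallScn
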